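/-
Foldings of a root system by a symmetry of the diagram: orbit reflections and the fixed part of the Weyl group.
-/
import Cfsg.Agent.Lib.Chev.Weyl

set_option autoImplicit false

namespace CfsgLib.Chev

open Cfsg.Lie

variable {D : ChevalleyDatum} {A : Aux}

/-- data of a folding: permutations of fundamental indices and of roots, orbits with words of their
longest reflections -/
structure Fold where
  pi : List ℕ
  rho : List ℕ
  orb : List (List ℕ)
  wd : List (List ℕ)

namespace Fold

/-- the permuted fundamental index -/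
def p (f : Fold) (i : ℕ) : ℕ := f.pi.getD i 0
/-- the permuted root -/
def r (f : Fold) (s : ℕ) : ℕ := f.rho.getD s 0
/-- number of orbits -/
def num (f : Fold) : ℕ := f.orb.length
/-- orbit -/
def J (f : Fold) (j : ℕ) : List ℕ := f.orb.getD j []
/-- word of the orbit reflection -/
def w (f : Fold) (j : ℕ) : List ℕ := f.wd.getD j []
/-- the concatenated word of a list of orbits -/
def flat (f : Fold) (l : List ℕ) : List ℕ := l.flatMap f.w
/-- iterate of the diagram permutation -/
def pIter (f : Fold) : ℕ → ℕ → ℕ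
  | 0, i => i
  | e + 1, i => f.p (f.pIter e i)

end Fold

variable (D A) in
/-- positive by coordinates -/
noncomputable def posB (r : ℕ) : Bool := (List.range D.rank).all fun k => decide (0 ≤ A.a r k)

variable (D A) in
/-- a positive root supported on the given fundamental indices -/
noncomputable def suppB (J : List ℕ) (r : ℕ) : Bool :=
  (List.range D.rank).all fun k => decide (0 ≤ A.a r k) && (J.contains k || decide (A.a r k = 0))

lemma posB_iff (g : Good D A) {r : ℕ} (hr : r < D.nroots) : posB D A r = true ↔ D.IsPosRoot r := by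
  rw [g.pos_iff r hr]
  simp only [posB, List.all_eq_true, List.mem_range, decide_eq_true_eq]
  refine ⟨fun h j => ?_, fun h j _ => h j⟩
  by_cases hj : j < D.rank
  · exact h j hj
  · rw [g.a_zero r hr j (not_lt.1 hj)]

/-- the check of a folding -/
noncomputable def Fold.check (D : ChevalleyDatum) (A : Aux) (f : Fold) : Bool :=
  decide (f.rho.Nodup ∧ f.rho.length = D.nroots ∧ f.pi.Nodup ∧ f.pi.length = D.rank) &&
  (List.range D.rank).all (fun i => decide (f.p i < D.rank ∧ f.r (D.simple i) = D.simple (f.p i) ∧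
    f.r (A.neg (D.simple i)) = A.neg (D.simple (f.p i)))) &&
  (List.range D.nroots).all (fun s => decide (f.r s < D.nroots) &&
    (!(posB D A s) || posB D A (f.r s))) &&
  (List.range f.num).all (fun j =>
    (f.w j).all (fun i => decide (i < D.rank) && (f.J j).contains i) &&
    (f.J j).all (fun i => (f.J j).all fun k =>
      (List.range D.rank).any fun e => decide (f.pIter e i = k)) &&
    (f.J j).all (fun i => decide (i < D.rank)) && !(f.J j).isEmpty &&
    (List.range D.nroots).all fun s =>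
      decide (wf A (f.w j) (f.r s) = f.r (wf A (f.w j) s)) &&
      decide (wf A (f.w j) (wf A (f.w j) s) = s) &&
      decide ((posB D A s && !(posB D A (wf A (f.w j) s))) = suppB D A (f.J j) s)) &&
  (List.range D.rank).all (fun i => (List.range f.num).any fun j => (f.J j).contains i)

/-- the meaning of the check -/
structure Fold.Valid (D : ChevalleyDatum) (A : Aux) (f : Fold) : Prop where
  p_lt : ∀ i < D.rank, f.p i < D.rank
  p_inj : ∀ i < D.rank, ∀ k < D.rank, f.p i = f.p k → i = k
  r_simple : ∀ i < D.rank, f.r (D.simple i) = D.simple (f.p i)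
  r_negSimple : ∀ i < D.rank, f.r (A.neg (D.simple i)) = A.neg (D.simple (f.p i))
  r_lt : ∀ s < D.nroots, f.r s < D.nroots
  r_inj : ∀ s < D.nroots, ∀ u < D.nroots, f.r s = f.r u → s = u
  r_pos : ∀ s, D.IsPosRoot s → D.IsPosRoot (f.r s)
  w_mem : ∀ j < f.num, ∀ i ∈ f.w j, i ∈ f.J j
  J_lt : ∀ j < f.num, ∀ i ∈ f.J j, i < D.rank
  J_ne : ∀ j < f.num, f.J j ≠ []
  J_orbit : ∀ j < f.num, ∀ i ∈ f.J j, ∀ k ∈ f.J j, ∃ e, f.pIter e i = k
  w_comm : ∀ j < f.num, ∀ s < D.nroots, wf A (f.w j) (f.r s) = f.r (wf A (f.w j) s)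
  w_invol : ∀ j < f.num, ∀ s < D.nroots, wf A (f.w j) (wf A (f.w j) s) = s
  w_supp : ∀ j < f.num, ∀ s < D.nroots, (D.IsPosRoot s ∧ ¬ D.IsPosRoot (wf A (f.w j) s)) ↔
    (D.IsPosRoot s ∧ ∀ k < D.rank, k ∉ f.J j → A.a s k = 0)
  cover : ∀ i < D.rank, ∃ j < f.num, i ∈ f.J j

lemma getD_inj_nodup {L : List ℕ} (h : L.Nodup) {i j : ℕ} (hi : i < L.length) (hj : j < L.length)
    (e : L.getD i 0 = L.getD j 0) : i = j := by
  simp only [List.getD_eq_getElem _ _ hi, List.getD_eq_getElem _ _ hj] at e
  exact (List.Nodup.getElem_inj_iff h).1 e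

lemma Fold.valid_of_check (g : Good D A) {f : Fold} (h : f.check D A = true) : f.Valid D A := by
  simp only [Fold.check, Bool.and_eq_true, List.all_eq_true, List.mem_range, decide_eq_true_eq,
    List.any_eq_true, List.contains_iff_mem, Bool.not_eq_true', List.isEmpty_eq_false_iff] at h
  obtain ⟨⟨⟨⟨⟨h1, h2, h3, h4⟩, hp⟩, hr⟩, hj⟩, hc⟩ := h
  have hlett : ∀ j < f.num, Letters D (f.w j) := fun j hj' i hi => ((hj j hj').1.1.1.1 i hi).1
  exact
    { p_lt := fun i hi => (hp i hi).1
      p_inj := fun i hi k hk e => getD_inj_nodup h3 (h4 ▸ hi) (h4 ▸ hk) e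
      r_simple := fun i hi => (hp i hi).2.1
      r_negSimple := fun i hi => (hp i hi).2.2
      r_lt := fun s hs => (hr s hs).1
      r_inj := fun s hs u hu e => getD_inj_nodup h1 (h2 ▸ hs) (h2 ▸ hu) e
      r_pos := fun s hs => by
        have := (hr s hs.1).2
        rw [(posB_iff g hs.1).2 hs] at this
        exact (posB_iff g (hr s hs.1).1).1 (by simpa using this)
      w_mem := fun j hj' i hi => ((hj j hj').1.1.1.1 i hi).2
      J_lt := fun j hj' i hi => (hj j hj').1.1.2 i hi
      J_ne := fun j hj' => (hj j hj').1.2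
      J_orbit := fun j hj' i hi k hk => by
        obtain ⟨e, _, he⟩ := (hj j hj').1.1.1.2 i hi k hk
        exact ⟨e, he⟩
      w_comm := fun j hj' s hs => ((hj j hj').2 s hs).1.1
      w_invol := fun j hj' s hs => ((hj j hj').2 s hs).1.2
      w_supp := fun j hj' s hs => by
        have e := ((hj j hj').2 s hs).2
        have hw := wf_lt g (hlett j hj') hs
        have e' : (posB D A s = true ∧ ¬ posB D A (wf A (f.w j) s) = true) ↔
            suppB D A (f.J j) s = true := by
          rw [← e]; simp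
        rw [posB_iff g hs, posB_iff g hw] at e'
        rw [e', g.pos_iff s hs]
        simp only [suppB, List.all_eq_true, List.mem_range, Bool.and_eq_true, decide_eq_true_eq,
          Bool.or_eq_true, List.contains_iff_mem]
        constructor
        · exact fun h => ⟨fun k => if hk : k < D.rank then (h k hk).1 else
            le_of_eq (g.a_zero s hs k (not_lt.1 hk)).symm, fun k hk hn => (h k hk).2.resolve_left hn⟩
        · exact fun h k hk => ⟨h.1 k, (em (k ∈ f.J j)).imp_right (h.2 k hk)⟩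
      cover := hc }

variable {f : Fold}

namespace Fold.Valid

lemma letters (v : f.Valid D A) {j : ℕ} (hj : j < f.num) : Letters D (f.w j) :=
  fun i hi => v.J_lt j hj i (v.w_mem j hj i hi)

lemma flat_letters (v : f.Valid D A) {l : List ℕ} (hl : ∀ j ∈ l, j < f.num) :
    Letters D (f.flat l) := by
  intro i hi
  obtain ⟨j, hj, hij⟩ := List.mem_flatMap.1 hi
  exact v.letters (hl j hj) i hij

lemma r_surj (v : f.Valid D A) {s : ℕ} (hs : s < D.nroots) : ∃ u < D.nroots, f.r u = s := by
  have hsur : Function.Surjective fun j : Fin D.nroots => (⟨f.r j, v.r_lt j j.isLt⟩ : Fin D.nroots) :=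
    Finite.injective_iff_surjective.1 fun a b e =>
      Fin.ext (v.r_inj a a.isLt b b.isLt (congrArg Fin.val e))
  obtain ⟨j, hj⟩ := hsur ⟨s, hs⟩
  exact ⟨j, j.isLt, congrArg Fin.val hj⟩

lemma flat_comm (g : Good D A) (v : f.Valid D A) : ∀ {l : List ℕ}, (∀ j ∈ l, j < f.num) →
    ∀ {s : ℕ}, s < D.nroots → wf A (f.flat l) (f.r s) = f.r (wf A (f.flat l) s)
  | [], _, _, _ => rfl
  | j :: l, hl, s, hs => by
    have hl' : ∀ k ∈ l, k < f.num := fun k hk => hl k (List.mem_cons_of_mem _ hk)
    rw [show f.flat (j :: l) = f.w j ++ f.flat l from rfl, wf_append, wf_append,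
      flat_comm g v hl' hs, v.w_comm j (hl j List.mem_cons_self) _ (wf_lt g (v.flat_letters hl') hs)]

lemma simple_mem (g : Good D A) (v : f.Valid D A) {j i : ℕ} (hj : j < f.num) (hi : i ∈ f.J j) :
    D.IsPosRoot (D.simple i) ∧ ¬ D.IsPosRoot (wf A (f.w j) (D.simple i)) := by
  have hir := v.J_lt j hj i hi
  refine (v.w_supp j hj _ (g.simple_lt i hir)).2 ⟨simple_pos g hir, fun k hk hn => ?_⟩
  rw [g.a_simple i hir k hk, if_neg]
  rintro rfl
  exact hn hi

lemma r_posIff (g : Good D A) (v : f.Valid D A) {s : ℕ} (hs : s < D.nroots) :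
    D.IsPosRoot (f.r s) ↔ D.IsPosRoot s := by
  refine ⟨fun h => ?_, v.r_pos s⟩
  classical
  set S := D.posRoots.toFinset
  have himg : S.image f.r = S := by
    refine Finset.eq_of_subset_of_card_le (fun x hx => ?_) ?_
    · obtain ⟨u, hu, rfl⟩ := Finset.mem_image.1 hx
      simp only [S, List.mem_toFinset, posRoots_mem] at hu ⊢
      exact v.r_pos u hu
    · rw [Finset.card_image_of_injOn]
      intro a ha b hb e
      simp only [S, Finset.mem_coe, List.mem_toFinset, posRoots_mem] at ha hb
      exact v.r_inj a ha.1 b hb.1 e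
  have : f.r s ∈ S.image f.r := by rw [himg]; simpa [S, posRoots_mem] using h
  obtain ⟨u, hu, e⟩ := Finset.mem_image.1 this
  simp only [S, List.mem_toFinset, posRoots_mem] at hu
  exact v.r_inj u hu.1 s hs e ▸ hu

/-- a fixed word inverting one fundamental root of an orbit inverts all roots of the orbit -/
lemma inverts_orbit (g : Good D A) (v : f.Valid D A) {w : List ℕ} (hw : Letters D w)
    (hc : ∀ s < D.nroots, wf A w (f.r s) = f.r (wf A w s)) {j i : ℕ} (hj : j < f.num)
    (hi : i ∈ f.J j) (hn : ¬ D.IsPosRoot (wf A w (D.simple i))) {s : ℕ} (hs : D.IsPosRoot s)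
    (hsJ : ¬ D.IsPosRoot (wf A (f.w j) s)) : ¬ D.IsPosRoot (wf A w s) := by
  have hall : ∀ e, f.pIter e i < D.rank ∧ ¬ D.IsPosRoot (wf A w (D.simple (f.pIter e i))) := by
    intro e
    induction e with
    | zero => exact ⟨v.J_lt j hj i hi, hn⟩
    | succ e ih =>
      refine ⟨v.p_lt _ ih.1, fun hp => ih.2 ?_⟩
      change D.IsPosRoot (wf A w (D.simple (f.p (f.pIter e i)))) at hp
      rw [← v.r_simple _ ih.1, hc _ (g.simple_lt _ ih.1),
        r_posIff g v (wf_lt g hw (g.simple_lt _ ih.1))] at hp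
      exact hp
  have hlt := wf_lt g hw hs.1
  refine not_pos_of_isNeg g ((g.negRoot_iff _ hlt).2 fun k => ?_)
  by_cases hk : k < D.rank
  swap
  · rw [g.a_zero _ hlt k (not_lt.1 hk)]
  rw [simple_eq_sum g (wf_rootMap g hw) hs.1 k hk]
  refine Finset.sum_nonpos fun m hm => ?_
  have hm := Finset.mem_range.1 hm
  by_cases hmJ : m ∈ f.J j
  · obtain ⟨e, rfl⟩ := v.J_orbit j hj i hi m hmJ
    have hl := wf_lt g hw (g.simple_lt _ hm)
    exact mul_nonpos_of_nonneg_of_nonpos ((g.pos_iff s hs.1).1 hs _)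
      ((g.negRoot_iff _ hl).1 (isNeg_of_not_pos g hl (hall e).2) k)
  · rw [((v.w_supp j hj s hs.1).1 ⟨hs, hsJ⟩).2 m hm hmJ, zero_mul]

/-- the number of positive roots inverted by an orbit reflection -/
lemma nInv_orbit_pos (g : Good D A) (v : f.Valid D A) {j : ℕ} (hj : j < f.num) :
    0 < nInv D A (f.w j) := by
  obtain ⟨i, hi⟩ := List.exists_mem_of_ne_nil _ (v.J_ne j hj)
  obtain ⟨h1, h2⟩ := simple_mem g v hj hi
  exact Finset.card_pos.2 ⟨_, Finset.mem_filter.2 ⟨List.mem_toFinset.2 (posRoots_mem.2 h1), h2⟩⟩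

/-- lengths add along a descent by an orbit -/
lemma nInv_descent (g : Good D A) (v : f.Valid D A) {w : List ℕ} (hw : Letters D w)
    (hc : ∀ s < D.nroots, wf A w (f.r s) = f.r (wf A w s)) {j i : ℕ} (hj : j < f.num)
    (hi : i ∈ f.J j) (hn : ¬ D.IsPosRoot (wf A w (D.simple i))) :
    nInv D A w = nInv D A (w ++ f.w j) + nInv D A (f.w j) := by
  classical
  set S := D.posRoots.toFinset with hS
  have hmem : ∀ {x}, x ∈ S ↔ D.IsPosRoot x := by simp [hS, posRoots_mem]
  have hlJ := v.letters hj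
  have key : ∀ {x}, D.IsPosRoot x → ¬ D.IsPosRoot (wf A (f.w j) x) →
      D.IsPosRoot (wf A w (wf A (f.w j) x)) := by
    intro x hx hxJ
    have hy := wf_lt g hlJ hx.1
    obtain hyp := (pos_or_pos_neg g hy).resolve_left hxJ
    have h2 : ¬ D.IsPosRoot (wf A (f.w j) (A.neg (wf A (f.w j) x))) := by
      rw [(wf_rootMap g hlJ).map_neg g hy, v.w_invol j hj x hx.1]
      exact not_pos_neg g hx
    have h3 := inverts_orbit g v hw hc hj hi hn hyp h2
    rw [(wf_rootMap g hw).map_neg g hy] at h3
    rcases pos_or_pos_neg g (wf_lt g hw hy) with h | h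
    · exact h
    · exact absurd h h3
  have hdis : Disjoint ((S.filter fun x => ¬ D.IsPosRoot (wf A (w ++ f.w j) x)).image (wf A (f.w j)))
      (S.filter fun x => ¬ D.IsPosRoot (wf A (f.w j) x)) := by
    rw [Finset.disjoint_left]
    intro y hy hy2
    obtain ⟨x, hx, rfl⟩ := Finset.mem_image.1 hy
    obtain ⟨hxS, hxn⟩ := Finset.mem_filter.1 hx
    have hx' := hmem.1 hxS
    refine (Finset.mem_filter.1 hy2).2 ?_
    rw [v.w_invol j hj x hx'.1]
    exact hx'
  have hu : (S.filter fun x => ¬ D.IsPosRoot (wf A w x)) =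
      (S.filter fun x => ¬ D.IsPosRoot (wf A (w ++ f.w j) x)).image (wf A (f.w j)) ∪
        (S.filter fun x => ¬ D.IsPosRoot (wf A (f.w j) x)) := by
    ext y
    simp only [Finset.mem_union, Finset.mem_image, Finset.mem_filter, hmem]
    constructor
    · rintro ⟨hy, hyn⟩
      by_cases hyJ : D.IsPosRoot (wf A (f.w j) y)
      · left
        refine ⟨_, ⟨hyJ, ?_⟩, v.w_invol j hj y hy.1⟩
        rwa [wf_append, v.w_invol j hj y hy.1]
      · exact Or.inr ⟨hy, hyJ⟩
    · rintro (⟨x, ⟨hx, hxn⟩, rfl⟩ | ⟨hy, hyJ⟩)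
      · rw [wf_append] at hxn
        refine ⟨?_, hxn⟩
        by_contra hxJ
        exact hxn (key hx hxJ)
      · exact ⟨hy, inverts_orbit g v hw hc hj hi hn hy hyJ⟩
  show (S.filter fun x => ¬ D.IsPosRoot (wf A w x)).card = _
  rw [hu, Finset.card_union_of_disjoint hdis, Finset.card_image_of_injOn]
  · rfl
  · intro a ha b hb e
    have ha' := hmem.1 (Finset.mem_filter.1 ha).1
    have hb' := hmem.1 (Finset.mem_filter.1 hb).1
    rw [← v.w_invol j hj a ha'.1, e, v.w_invol j hj b hb'.1]

/-- a nontrivial fixed word inverts a fundamental root -/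
lemma exists_descent (g : Good D A) {w : List ℕ} (hw : Letters D w) :
    SameOn D (wf A w) id ∨ ∃ i < D.rank, ¬ D.IsPosRoot (wf A w (D.simple i)) := by
  by_cases h : ∃ i < D.rank, ¬ D.IsPosRoot (wf A w (D.simple i))
  · exact Or.inr h
  push Not at h
  left
  have h0 : nInv D A w = 0 := by
    rw [nInv, Finset.card_eq_zero, Finset.filter_eq_empty_iff]
    intro r hr hn
    rw [List.mem_toFinset, posRoots_mem] at hr
    have hlt := wf_lt g hw hr.1
    refine hn ((g.pos_iff _ hlt).2 fun j => ?_)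
    by_cases hj : j < D.rank
    · rw [simple_eq_sum g (wf_rootMap g hw) hr.1 j hj]
      refine Finset.sum_nonneg fun k hk => ?_
      have hk := Finset.mem_range.1 hk
      exact mul_nonneg ((g.pos_iff r hr.1).1 hr k) ((g.pos_iff _ (h k hk).1).1 (h k hk) j)
    · rw [g.a_zero _ hlt j (not_lt.1 hj)]
  exact sameOn_id_of_nInv g hw h0
where
  sameOn_id_of_nInv (g : Good D A) {w : List ℕ} (hw : Letters D w) (h0 : nInv D A w = 0) :
      SameOn D (wf A w) id := by
    classical
    have hex : ∃ n, ∃ u, Letters D u ∧ SameOn D (wf A u) (wf A w) ∧ u.length = n :=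
      ⟨_, w, hw, fun r _ => rfl, rfl⟩
    obtain ⟨u, hu, hsame, hlen⟩ := Nat.find_spec hex
    have hred : RedWord D A u := fun u' hu' e =>
      hlen ▸ Nat.find_le ⟨u', hu', fun r hr => (e r hr).trans (hsame r hr), rfl⟩
    have h1 := nInv_of_red g hu hred
    rw [nInv_congr hsame, h0] at h1
    rw [List.length_eq_zero_iff.1 h1.symm] at hsame
    exact fun r hr => (hsame r hr).symm

end Fold.Valid

end CfsgLib.Chev
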