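/-
Enumerations of the fixed part of a Weyl group under a folding.
-/
import Cfsg.Agent.Lib.Chev.Twist.Fold
import Cfsg.Agent.Lib.Chev.Tri

set_option autoImplicit false

namespace CfsgLib.Chev

open Cfsg.Lie

/-- a state: a word of orbits, the number of inversions, the images of the fundamental roots and the
states reached by the orbit reflections -/
structure FState where
  word : List ℕ
  cnt : ℕ
  img : List ℕ
  nxt : List ℕ
deriving Inhabited

variable {D : ChevalleyDatum} {A : Aux}

/-- a numerical key of a list of roots -/
def imgKey (n : ℕ) (L : List ℕ) : ℕ := L.foldr (fun x acc => x + n * acc) 0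

/-- strictly increasing -/
def incB : List ℕ → Bool
  | a :: b :: L => decide (a < b) && incB (b :: L)
  | _ => true

variable (D A) in
/-- the code of the image of a root from the codes of the images of the fundamental roots -/
noncomputable def imgCode (cs : List ℤ) (r : ℕ) : ℤ :=
  ((List.range D.rank).map fun k => A.a r k * cs.getD k 0).sum

/-- the check of a table of states -/
noncomputable def ftabCheck (D : ChevalleyDatum) (A : Aux) (f : Fold) (T : List FState) : Bool :=
  incB (T.map fun e => imgKey D.nroots e.img) &&
  (T.any fun e => e.word.isEmpty) &&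
  T.all fun e =>
    e.word.all (fun j => decide (j < f.num)) &&
    decide (((List.range D.rank).map fun k => wf A (f.flat e.word) (D.simple k)) = e.img) &&
    decide (e.nxt.length = f.num) &&
    (e.nxt.zipIdx.all fun q =>
      decide (q.1 < T.length) &&
        decide ((T.getD q.1 default).img = e.img.map (wf A (f.w q.2)))) &&
    decide ((((List.range D.nroots).filter (posB D A)).filter fun r =>
      decide (imgCode D A (e.img.map (code D A)) r < 0)).length = e.cnt)

lemma incB_pairwise : ∀ {L : List ℕ}, incB L = true → L.Pairwise (· < ·)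
  | [], _ => List.Pairwise.nil
  | [a], _ => List.pairwise_singleton _ a
  | a :: b :: L, h => by
    simp only [incB, Bool.and_eq_true, decide_eq_true_eq] at h
    have ih := incB_pairwise h.2
    refine List.pairwise_cons.2 ⟨fun x hx => ?_, ih⟩
    rcases List.mem_cons.1 hx with rfl | hx
    · exact h.1
    · exact h.1.trans ((List.pairwise_cons.1 ih).1 x hx)

/-- the meaning of the check of a table -/
structure FTabOK (D : ChevalleyDatum) (A : Aux) (f : Fold) (T : List FState) : Prop where
  letters : ∀ e ∈ T, ∀ j ∈ e.word, j < f.num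
  distinct : ∀ e ∈ T, ∀ e' ∈ T,
    SameOn D (wf A (f.flat e.word)) (wf A (f.flat e'.word)) → e = e'
  nodup : T.Nodup
  complete : ∀ w, Letters D w → (∀ s < D.nroots, wf A w (f.r s) = f.r (wf A w s)) →
    ∃ e ∈ T, SameOn D (wf A (f.flat e.word)) (wf A w)
  count : ∀ e ∈ T, nInv D A (f.flat e.word) = e.cnt

lemma Fold.Valid.exists_flat (g : Good D A) {f : Fold} (v : f.Valid D A) {w : List ℕ}
    (hw : Letters D w) (hc : ∀ s < D.nroots, wf A w (f.r s) = f.r (wf A w s)) :
    ∃ l : List ℕ, (∀ j ∈ l, j < f.num) ∧ SameOn D (wf A (f.flat l)) (wf A w) := by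
  induction hk : nInv D A w using Nat.strong_induction_on generalizing w with
  | _ k ih =>
    rcases Fold.Valid.exists_descent g hw with h | ⟨i, hi, hn⟩
    · exact ⟨[], by simp, fun r hr => (h r hr).symm⟩
    obtain ⟨j, hj, hij⟩ := v.cover i hi
    have hlJ := v.letters hj
    have hc' : ∀ s < D.nroots, wf A (w ++ f.w j) (f.r s) = f.r (wf A (w ++ f.w j) s) := by
      intro s hs
      rw [wf_append, wf_append, v.w_comm j hj s hs, hc _ (wf_lt g hlJ hs)]
    have hlt : nInv D A (w ++ f.w j) < k := by
      have h1 := Fold.Valid.nInv_descent g v hw hc hj hij hn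
      have h2 := Fold.Valid.nInv_orbit_pos g v hj
      omega
    obtain ⟨l, hl, e⟩ := ih _ hlt (hw.append hlJ) hc' rfl
    refine ⟨l ++ [j], by simpa [or_imp, forall_and] using And.intro hl hj, fun r hr => ?_⟩
    rw [show f.flat (l ++ [j]) = f.flat l ++ f.w j by simp [Fold.flat], wf_append,
      e _ (wf_lt g hlJ hr), wf_append, v.w_invol j hj r hr]

theorem ftabOK_of_check (h : Std D A) {f : Fold} (v : f.Valid D A) {T : List FState}
    (hc : ftabCheck D A f T = true) : FTabOK D A f T := by
  have g := h.good
  simp only [ftabCheck, Bool.and_eq_true, List.all_eq_true, List.any_eq_true, decide_eq_true_eq,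
    List.isEmpty_iff] at hc
  obtain ⟨⟨hinc, h0⟩, hall⟩ := hc
  have hlet : ∀ e ∈ T, ∀ j ∈ e.word, j < f.num := fun e he => (hall e he).1.1.1.1
  have himg : ∀ e ∈ T, ∀ k < D.rank, e.img.getD k 0 = wf A (f.flat e.word) (D.simple k) := by
    intro e he k hk
    rw [← (hall e he).1.1.1.2, getD_map_range _ 0 hk]
  have hlen : ∀ e ∈ T, e.img.length = D.rank := fun e he => by
    rw [← (hall e he).1.1.1.2]; simp
  have hkey := incB_pairwise hinc
  have hnd : (T.map fun e => imgKey D.nroots e.img).Nodup :=
    hkey.imp fun {a b} hab => Nat.ne_of_lt hab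
  have hinj := List.inj_on_of_nodup_map hnd
  have heq : ∀ e ∈ T, ∀ e' ∈ T,
      SameOn D (wf A (f.flat e.word)) (wf A (f.flat e'.word)) → e = e' := by
    intro e he e' he' hs
    refine hinj he he' ?_
    rw [← (hall e he).1.1.1.2, ← (hall e' he').1.1.1.2]
    refine congrArg _ (List.map_congr_left fun k hk => ?_)
    exact hs _ (g.simple_lt k (List.mem_range.1 hk))
  have hflat : ∀ l : List ℕ, (∀ j ∈ l, j < f.num) →
      ∃ e ∈ T, SameOn D (wf A (f.flat e.word)) (wf A (f.flat l)) := by
    intro l
    induction l with
    | nil =>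
      intro _
      obtain ⟨e, he, hw⟩ := h0
      exact ⟨e, he, by rw [hw]; exact fun r _ => rfl⟩
    | cons j l ih =>
      intro hl
      have hl' : ∀ k ∈ l, k < f.num := fun k hk => hl k (List.mem_cons_of_mem _ hk)
      have hj := hl j List.mem_cons_self
      obtain ⟨e, he, hs⟩ := ih hl'
      have hn := (hall e he).1.1.2
      have hnx := (hall e he).1.2
      have hq := hnx (e.nxt.getD j 0, j) (List.mem_zipIdx_iff_getElem?.2 (by
        simp [List.getD_eq_getElem?_getD, List.getElem?_eq_getElem (hn ▸ hj)]))
      set e' := T.getD (e.nxt.getD j 0) default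
      have he' : e' ∈ T := by
        show T.getD _ default ∈ T
        rw [List.getD_eq_getElem _ _ hq.1]; exact List.getElem_mem _
      have hle := v.flat_letters (hlet e' he')
      have hll := v.flat_letters hl'
      refine ⟨e', he', sameOn_of_simple g (wf_rootMap g hle)
        (wf_rootMap g (v.flat_letters hl)) fun m hm => ?_⟩
      rw [← himg e' he' m hm, hq.2, List.getD_eq_getElem?_getD, List.getElem?_map,
        List.getElem?_eq_getElem (by rw [hlen e he]; exact hm), Option.map_some, Option.getD_some,
        ← List.getD_eq_getElem _ 0 (by rw [hlen e he]; exact hm), himg e he m hm,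
        show f.flat (j :: l) = f.w j ++ f.flat l from rfl, wf_append]
      exact congrArg _ (hs _ (g.simple_lt m hm))
  refine
    { letters := hlet
      distinct := heq
      nodup := List.Nodup.of_map _ hnd
      complete := fun w hw hcm => ?_
      count := fun e he => ?_ }
  · obtain ⟨l, hl, hs⟩ := Fold.Valid.exists_flat g v hw hcm
    obtain ⟨e, he, hs'⟩ := hflat l hl
    exact ⟨e, he, fun r hr => (hs' r hr).trans (hs r hr)⟩
  · have hle := v.flat_letters (hlet e he)
    have hcd : ∀ r < D.nroots,
        imgCode D A (e.img.map (code D A)) r = code D A (wf A (f.flat e.word) r) := by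
      intro r hr
      simp only [imgCode, code]
      rw [sum_map_range, sum_map_range]
      have hget : ∀ k ∈ Finset.range D.rank, (e.img.map (code D A)).getD k 0 =
          code D A (wf A (f.flat e.word) (D.simple k)) := by
        intro k hk
        rw [← himg e he k (Finset.mem_range.1 hk), List.getD_eq_getElem?_getD, List.getElem?_map,
          List.getElem?_eq_getElem (by rw [hlen e he]; exact Finset.mem_range.1 hk), Option.map_some,
          Option.getD_some, List.getD_eq_getElem _ 0 (by rw [hlen e he]; exact Finset.mem_range.1 hk)]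
      rw [Finset.sum_congr rfl fun k hk => by rw [hget k hk]]
      simp only [code, sum_map_range, Finset.mul_sum]
      rw [Finset.sum_comm]
      refine Finset.sum_congr rfl fun j hj => ?_
      rw [simple_eq_sum g (wf_rootMap g hle) hr j (Finset.mem_range.1 hj), Finset.sum_mul]
      exact Finset.sum_congr rfl fun k _ => by ring
    classical
    rw [← (hall e he).2, nInv,
      ← List.toFinset_card_of_nodup ((List.nodup_range.filter _).filter _), List.toFinset_filter]
    congr 1
    ext r
    simp only [Finset.mem_filter, List.mem_toFinset, List.mem_filter, List.mem_range,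
      posRoots_mem, decide_eq_true_eq]
    constructor
    · rintro ⟨hp, hn⟩
      refine ⟨⟨hp.1, (posB_iff g hp.1).2 hp⟩, ?_⟩
      rw [hcd r hp.1]
      have hlt := wf_lt g hle hp.1
      rcases g.pos_or_neg _ hlt with h1 | h1
      · exact absurd ((g.pos_iff _ hlt).2 h1) hn
      · exact code_neg_of_neg h hlt h1
    · rintro ⟨⟨hr, hp⟩, hn⟩
      refine ⟨(posB_iff g hr).1 hp, fun hpos => ?_⟩
      rw [hcd r hr] at hn
      have := code_pos h (wf_lt g hle hr) ((g.pos_iff _ (wf_lt g hle hr)).1 hpos)
      omega

end CfsgLib.Chev
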