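/-
Endomorphisms of a Chevalley group permuting the root subgroups along a folding, and their fixed points.
-/
import Cfsg.Agent.Lib.Chev.Twist.FoldTab
import Cfsg.Agent.Lib.Chev.WeylN

set_option autoImplicit false

namespace CfsgLib.Chev

open Cfsg.Lie Matrix

variable {D : ChevalleyDatum} {A : Aux} {F : Type*} [Field F]

/-- the sign of a word at a root -/
noncomputable def sgnW (A : Aux) : List ℕ → ℕ → ℤ
  | [], _ => 1
  | i :: w, r => A.eta i (wf A w r) * sgnW A w r

lemma nW_conj_xG (g : Good D A) : ∀ {w : List ℕ}, Letters D w → ∀ {r : ℕ}, r < D.nroots → ∀ t : F,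
    nW F g w * xG g r t * (nW F g w)⁻¹ = xG g (wf A w r) ((sgnW A w r : F) * t)
  | [], _, r, _, t => by simp [nW, sgnW, wf]
  | i :: w, h, r, hr, t => by
    rw [show nW F g (i :: w) = nS F g i * nW F g w by simp [nW],
      show nS F g i * nW F g w * xG g r t * (nS F g i * nW F g w)⁻¹ =
        nS F g i * (nW F g w * xG g r t * (nW F g w)⁻¹) * (nS F g i)⁻¹ by group,
      nW_conj_xG g h.tail hr t, nS_conj_xG g h.head (wf_lt g h.tail hr)]
    show xG g (A.refl i (wf A w r)) _ = xG g (A.refl i (wf A w r)) _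
    congr 1
    simp [sgnW, mul_assoc]

/-- words with equal root maps and signs give equal monomial elements -/
lemma nW_eq_of_sgn (h : Std D A) {w w' : List ℕ} (hw : Letters D w) (hw' : Letters D w')
    (he : ∀ r < D.nroots, wf A w r = wf A w' r ∧ sgnW A w r = sgnW A w' r) :
    nW F h.good w = nW F h.good w' := by
  have g := h.good
  set y := (nW F g w')⁻¹ * nW F g w with hy
  have hyN : y ∈ D.monomialSubgroup F := mul_mem (inv_mem (nW_mem g hw')) (nW_mem g hw)
  have hconj : ∀ r < D.nroots, ∀ t : F, y * xG g r t * y⁻¹ = xG g r t := by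
    intro r hr t
    have h1 := nW_conj_xG (F := F) g hw hr t
    rw [(he r hr).1, (he r hr).2, ← nW_conj_xG g hw' hr t] at h1
    rw [hy, show (nW F g w')⁻¹ * nW F g w * xG g r t * ((nW F g w')⁻¹ * nW F g w)⁻¹ =
      (nW F g w')⁻¹ * (nW F g w * xG g r t * (nW F g w)⁻¹) * nW F g w' by group, h1]
    group
  obtain ⟨σ, hσ⟩ := exists_acts g hyN
  have hid : ∀ r < D.nroots, σ r = r := by
    intro r hr
    obtain ⟨k, hk, e⟩ := hσ.conj r hr
    exact (xG_inj_root g hr (hσ.map.1 r hr) one_ne_zero ((hconj r hr 1).symm.trans (e 1))).symm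
  have hH := mem_diag_of_id h hyN hσ hid
  rw [diagonalSubgroup_eq g] at hH
  obtain ⟨c, hc⟩ := hH
  have hchi : ∀ r < D.nroots, chi D A c r = 1 := by
    intro r hr
    have h1 := tor_conj_xG g c hr (1 : F)
    rw [hc, hconj r hr, mul_one] at h1
    obtain ⟨i, hi⟩ := xG_inj_root.exists_coro_ne_zero (F := F) g hr
    have h2 : ∀ t : F, ((xG g r t : GL D.Idx F) : Matrix D.Idx D.Idx F) (Sum.inl i)
        (Sum.inr ⟨A.neg r, g.neg_lt r hr⟩) = t * (A.coro r i : F) := fun t => by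
      rw [xG_val, x_entry g hr]
    have h3 := h2 1
    rw [h1, h2] at h3
    exact Units.ext (by simpa using mul_right_cancel₀ hi h3)
  have hy1 : y = 1 := by
    apply Units.ext
    rw [← hc, tor_val, dia_congr (e := fun _ => (1 : F)) (fun s hs => by rw [hchi s hs, Units.val_one]),
      dia_one, Units.val_one]
  rw [hy, inv_mul_eq_one] at hy1
  exact hy1.symm

/-- the check that the orbit elements are symmetric -/
noncomputable def braidCheck (D : ChevalleyDatum) (A : Aux) (f : Fold) : Bool :=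
  (List.range f.num).all fun j =>
    decide ((List.range D.rank).all (fun i => decide (f.p i < D.rank)) = true) &&
    (List.range D.nroots).all fun r =>
      decide (wf A ((f.w j).map f.p) r = wf A (f.w j) r ∧
        sgnW A ((f.w j).map f.p) r = sgnW A (f.w j) r)

/-- an endomorphism folded along `f` -/
structure Twist (F : Type*) [Field F] (h : Std D A) (f : Fold) where
  sigma : ↥(D.group F) →* ↥(D.group F)
  phi : ℕ → F → F
  psi : ℕ → F →+* F
  sigma_x : ∀ r < D.nroots, ∀ t : F,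
    ((sigma ⟨xG h.good r t, xG_mem_group h.good r t⟩ : ↥(D.group F)) : GL D.Idx F) =
      xG h.good (f.r r) (phi r t)
  phi_ne : ∀ r < D.nroots, ∀ t : F, t ≠ 0 → phi r t ≠ 0
  phi_simple : ∀ i < D.rank, ∀ t : F,
    phi (D.simple i) t = psi i t ∧ phi (A.neg (D.simple i)) t = psi i t
  valid : f.Valid D A
  braid : braidCheck D A f = true

namespace Twist

variable {h : Std D A} {f : Fold} (τ : Twist F h f)

/-- `z` is the image of `y` -/
def Maps (y z : GL D.Idx F) : Prop :=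
  ∃ hy : y ∈ D.group F, ((τ.sigma ⟨y, hy⟩ : ↥(D.group F)) : GL D.Idx F) = z

lemma Maps.fun_eq {y z z' : GL D.Idx F} (h1 : τ.Maps y z) (h2 : τ.Maps y z') : z = z' := by
  obtain ⟨_, e⟩ := h1; obtain ⟨_, e'⟩ := h2
  exact e.symm.trans e'

lemma Maps.mul {a b c d : GL D.Idx F} (h1 : τ.Maps a c) (h2 : τ.Maps b d) :
    τ.Maps (a * b) (c * d) := by
  obtain ⟨ha, e⟩ := h1; obtain ⟨hb, e'⟩ := h2
  refine ⟨mul_mem ha hb, ?_⟩
  rw [← e, ← e', ← Subgroup.coe_mul, ← map_mul]
  rfl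

lemma Maps.inv {a c : GL D.Idx F} (h1 : τ.Maps a c) : τ.Maps a⁻¹ c⁻¹ := by
  obtain ⟨ha, e⟩ := h1
  refine ⟨inv_mem ha, ?_⟩
  rw [← e, ← Subgroup.coe_inv, ← map_inv]
  rfl

lemma maps_one : τ.Maps 1 1 := ⟨one_mem _, by
  rw [show (⟨1, one_mem _⟩ : ↥(D.group F)) = 1 from rfl, map_one]; rfl⟩

lemma maps_xG {r : ℕ} (hr : r < D.nroots) (t : F) :
    τ.Maps (xG h.good r t) (xG h.good (f.r r) (τ.phi r t)) :=
  ⟨xG_mem_group h.good r t, τ.sigma_x r hr t⟩

/-- the fixed points -/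
def fix : Subgroup (GL D.Idx F) where
  carrier := {y | τ.Maps y y}
  one_mem' := τ.maps_one
  mul_mem' := fun ha hb => Maps.mul τ ha hb
  inv_mem' := fun ha => Maps.inv τ ha

lemma mem_fix {y : GL D.Idx F} : y ∈ τ.fix ↔ τ.Maps y y := Iff.rfl

lemma fix_le_group : τ.fix ≤ D.group F := fun _ hy => hy.1

lemma maps_UP {P Q : ℕ → Prop} (hP : ∀ r, P r → r < D.nroots) (hPQ : ∀ r, P r → Q (f.r r))
    {y : GL D.Idx F} (hy : y ∈ UP F h.good P) :
    ∃ z ∈ UP F h.good Q, τ.Maps y z := by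
  unfold UP at hy
  induction hy using Subgroup.closure_induction with
  | mem y hy =>
    obtain ⟨r, t, hr, rfl⟩ := hy
    exact ⟨_, xG_mem_UP h.good (hPQ r hr) _, τ.maps_xG (hP r hr) t⟩
  | one => exact ⟨1, one_mem _, τ.maps_one⟩
  | mul a b _ _ ha hb =>
    obtain ⟨c, hc, h1⟩ := ha
    obtain ⟨d, hd, h2⟩ := hb
    exact ⟨c * d, mul_mem hc hd, Maps.mul τ h1 h2⟩
  | inv a _ ha =>
    obtain ⟨c, hc, h1⟩ := ha
    exact ⟨c⁻¹, inv_mem hc, Maps.inv τ h1⟩

lemma maps_pos {y : GL D.Idx F} (hy : y ∈ D.posUnipotent F) :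
    ∃ z ∈ D.posUnipotent F, τ.Maps y z := by
  rw [posUnipotent_eq h.good] at hy ⊢
  exact τ.maps_UP (P := D.IsPosRoot) (Q := D.IsPosRoot) (fun r hr => hr.1)
    (fun r hr => τ.valid.r_pos r hr) hy

lemma maps_nG {i : ℕ} (hi : i < D.rank) (c : F) :
    τ.Maps (nG h.good (D.simple i) c) (nG h.good (D.simple (f.p i)) (τ.psi i c)) := by
  have g := h.good
  have hs := g.simple_lt i hi
  have hs' := g.simple_lt _ (τ.valid.p_lt i hi)
  have e1 := τ.maps_xG hs c
  have e2 := τ.maps_xG (g.neg_lt _ hs) (-c⁻¹)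
  rw [τ.valid.r_simple i hi, (τ.phi_simple i hi c).1] at e1
  rw [τ.valid.r_negSimple i hi, (τ.phi_simple i hi _).2, map_neg, map_inv₀] at e2
  unfold nG
  rw [g.neg_eq _ hs, g.neg_eq _ hs']
  exact Maps.mul τ (Maps.mul τ e1 e2) e1

lemma maps_nS {i : ℕ} (hi : i < D.rank) :
    τ.Maps (nS F h.good i) (nS F h.good (f.p i)) := by
  have := τ.maps_nG hi 1
  rwa [map_one] at this

lemma maps_nW {w : List ℕ} (hw : Letters D w) :
    τ.Maps (nW F h.good w) (nW F h.good (w.map f.p)) := by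
  induction w with
  | nil => simpa [nW] using τ.maps_one
  | cons i w ih =>
    have := Maps.mul τ (τ.maps_nS hw.head) (ih hw.tail)
    simpa [nW] using this

/-- the orbit element -/
noncomputable def nJ (_τ : Twist F h f) (j : ℕ) : GL D.Idx F := nW F h.good (f.w j)

lemma nJ_fix {j : ℕ} (hj : j < f.num) : τ.nJ j ∈ τ.fix := by
  have hb := τ.braid
  simp only [braidCheck, List.all_eq_true, List.mem_range, Bool.and_eq_true, decide_eq_true_eq] at hb
  have hl := τ.valid.letters hj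
  have hl' : Letters D ((f.w j).map f.p) := fun i hi => by
    obtain ⟨k, hk, rfl⟩ := List.mem_map.1 hi
    exact τ.valid.p_lt k (hl k hk)
  have e := nW_eq_of_sgn (F := F) h hl' hl (hb j hj).2
  have := τ.maps_nW hl
  rw [e] at this
  exact this

lemma nFlat_fix : ∀ {l : List ℕ}, (∀ j ∈ l, j < f.num) → nW F h.good (f.flat l) ∈ τ.fix
  | [], _ => by simpa [Fold.flat, nW] using τ.maps_one
  | j :: l, hl => by
    have e : nW F h.good (f.flat (j :: l)) = τ.nJ j * nW F h.good (f.flat l) := by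
      simp [Fold.flat, nW, nJ]
    rw [e]
    exact mul_mem (τ.nJ_fix (hl j List.mem_cons_self))
      (nFlat_fix fun k hk => hl k (List.mem_cons_of_mem _ hk))

lemma maps_tor (c : Fin D.rank → Fˣ) :
    τ.Maps (tor D A c) (tor D A (∏ i : Fin D.rank,
      Pi.mulSingle (⟨f.p i, τ.valid.p_lt i i.isLt⟩ : Fin D.rank)
        (Units.map (τ.psi i : F →+* F).toMonoidHom (c i)))) := by
  have g := h.good
  have key : ∀ S : Finset (Fin D.rank), τ.Maps (tor D A (∏ i ∈ S, Pi.mulSingle i (c i)))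
      (tor D A (∏ i ∈ S, Pi.mulSingle (⟨f.p i, τ.valid.p_lt i i.isLt⟩ : Fin D.rank)
        (Units.map (τ.psi i : F →+* F).toMonoidHom (c i)))) := by
    intro S
    induction S using Finset.induction_on with
    | empty => simpa using τ.maps_one
    | insert a S ha ih =>
      rw [Finset.prod_insert ha, Finset.prod_insert ha, map_mul, map_mul]
      refine Maps.mul τ ?_ ih
      rw [← hG_simple g a, ← hG_simple g ⟨f.p a, τ.valid.p_lt a a.isLt⟩]
      have := Maps.mul τ (τ.maps_nG a.isLt (c a : F)) (τ.maps_nG a.isLt (-1))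
      rw [map_neg, map_one] at this
      exact this
  have := key Finset.univ
  rwa [Finset.univ_prod_mulSingle] at this

lemma maps_diag {y : GL D.Idx F} (hy : y ∈ D.diagonalSubgroup F) :
    ∃ z ∈ D.diagonalSubgroup F, τ.Maps y z := by
  rw [diagonalSubgroup_eq h.good] at hy ⊢
  obtain ⟨c, rfl⟩ := hy
  exact ⟨_, ⟨_, rfl⟩, τ.maps_tor c⟩

lemma maps_borel {y : GL D.Idx F} (hy : y ∈ D.borelSubgroup F) :
    ∃ z ∈ D.borelSubgroup F, τ.Maps y z := by
  obtain ⟨u, hu, c, rfl⟩ := (mem_borel_iff h.good).1 hy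
  obtain ⟨u', hu', e⟩ := τ.maps_pos hu
  exact ⟨u' * tor D A _, mul_mem (pos_le_borel hu') (tor_mem_borel h.good _),
    Maps.mul τ e (τ.maps_tor c)⟩

/-- images of monomial elements -/
lemma maps_monomial {n : GL D.Idx F} (hn : n ∈ D.monomialSubgroup F) {s : ℕ → ℕ}
    (hs : Acts h.good n s) :
    ∃ n' ∈ D.monomialSubgroup F, ∃ s', τ.Maps n n' ∧ Acts h.good n' s' ∧
      ∀ r < D.nroots, s' (f.r r) = f.r (s r) := by
  have g := h.good
  obtain ⟨w, hw, c, rfl⟩ := monomial_exists_word g hn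
  have hmap := Maps.mul τ (τ.maps_tor c) (τ.maps_nW hw)
  have hl' : Letters D (w.map f.p) := fun i hi => by
    obtain ⟨k, hk, rfl⟩ := List.mem_map.1 hi
    exact τ.valid.p_lt k (hw k hk)
  have hn' := mul_mem (tor_mem_monomial (F := F) g (∏ i : Fin D.rank,
      Pi.mulSingle (⟨f.p i, τ.valid.p_lt i i.isLt⟩ : Fin D.rank)
        (Units.map (τ.psi i : F →+* F).toMonoidHom (c i)))) (nW_mem g hl')
  obtain ⟨s', hs'⟩ := exists_acts g hn'
  refine ⟨_, hn', s', hmap, hs', fun r hr => ?_⟩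
  obtain ⟨k, hk, e⟩ := hs.conj r hr
  have h1 := Maps.mul τ (Maps.mul τ hmap (τ.maps_xG hr 1)) (Maps.inv τ hmap)
  rw [e 1] at h1
  have h2 := Maps.fun_eq τ h1 (τ.maps_xG (hs.map.1 r hr) _)
  have hr' := τ.valid.r_lt r hr
  obtain ⟨k', hk', e'⟩ := hs'.conj _ hr'
  rw [e'] at h2
  exact xG_inj_root g (hs'.map.1 _ hr') (τ.valid.r_lt _ (hs.map.1 r hr))
    (mul_ne_zero hk' (τ.phi_ne r hr 1 one_ne_zero)) h2

include τ in
/-- positive roots sent to negative ones are permuted -/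
lemma toNeg_r {s : ℕ → ℕ} (hs : ∀ r < D.nroots, s r < D.nroots)
    (hc : ∀ r < D.nroots, s (f.r r) = f.r (s r)) {r : ℕ} (hr : toNeg D s r) :
    toNeg D s (f.r r) := by
  refine ⟨τ.valid.r_pos r hr.1, ?_⟩
  rw [hc r hr.1.1]
  refine isNeg_of_not_pos h.good (τ.valid.r_lt _ (hs r hr.1.1)) fun hp => ?_
  exact not_pos_of_isNeg h.good hr.2 ((Fold.Valid.r_posIff h.good τ.valid (hs r hr.1.1)).1 hp)

end Twist

end CfsgLib.Chev
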