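/-
The normal form of fixed points and the orbit decomposition of their unipotent parts.
-/
import Cfsg.Agent.Lib.Chev.Twist.Basic
import Cfsg.Agent.Lib.Chev.Orders

set_option autoImplicit false

namespace CfsgLib.Chev

open Cfsg.Lie Matrix

variable {D : ChevalleyDatum} {A : Aux} {F : Type*} [Field F]

namespace Twist

variable {h : Std D A} {f : Fold} (τ : Twist F h f)

/-- the fixed part of the unipotent subgroup attached to a word -/
noncomputable def V (w : List ℕ) : Subgroup (GL D.Idx F) :=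
  UP F h.good (toNeg D (wf A w)) ⊓ τ.fix

lemma V_congr {w w' : List ℕ} (e : SameOn D (wf A w) (wf A w')) : τ.V w = τ.V w' := by
  rw [V, V, UP_congr h.good (P := toNeg D (wf A w)) (Q := toNeg D (wf A w')) fun r =>
    ⟨fun hr => ⟨hr.1, e r hr.1.1 ▸ hr.2⟩, fun hr => ⟨hr.1, (e r hr.1.1).symm ▸ hr.2⟩⟩]

lemma V_id {w : List ℕ} (e : SameOn D (wf A w) id) : τ.V w = ⊥ := by
  rw [eq_bot_iff]
  refine le_trans inf_le_left (UP_le fun r t hr => ?_)
  exfalso
  have := hr.2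
  rw [e r hr.1.1] at this
  exact not_pos_of_isNeg h.good this hr.1

lemma V_le_pos (w : List ℕ) : τ.V w ≤ D.posUnipotent F ⊓ τ.fix :=
  inf_le_inf_right _ (UP_toNeg_le h.good _)

lemma maps_toNeg {w : List ℕ} (hw : Letters D w)
    (hc : ∀ r < D.nroots, wf A w (f.r r) = f.r (wf A w r)) {y : GL D.Idx F}
    (hy : y ∈ UP F h.good (toNeg D (wf A w))) :
    ∃ z ∈ UP F h.good (toNeg D (wf A w)), τ.Maps y z :=
  τ.maps_UP (fun r hr => hr.1.1) (fun r hr => τ.toNeg_r (fun s hs => wf_lt h.good hw hs) hc hr) hy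

lemma fix_commutes {n : GL D.Idx F} {s : ℕ → ℕ} (hn : n ∈ D.monomialSubgroup F)
    (hs : Acts h.good n s) {n' : GL D.Idx F} (hm : τ.Maps n n')
    (hH : n⁻¹ * n' ∈ D.diagonalSubgroup F) : ∀ r < D.nroots, s (f.r r) = f.r (s r) := by
  obtain ⟨n'', hn'', s', hm', hs', hc⟩ := τ.maps_monomial hn hs
  obtain rfl := Maps.fun_eq τ hm hm'
  rw [diagonalSubgroup_eq h.good] at hH
  obtain ⟨c, hc'⟩ := hH
  have e : n' = n * tor D A c := by rw [hc']; group
  rw [e] at hs'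
  intro r hr
  rw [← hc r hr]
  exact (hs'.unique (hs.mul (acts_tor h.good c)) (τ.valid.r_lt r hr)).symm

/-- existence of the normal form of a fixed point -/
theorem fix_decomp {T : List FState} (hT : FTabOK D A f T) {y : GL D.Idx F} (hy : y ∈ τ.fix) :
    ∃ u ∈ D.posUnipotent F ⊓ τ.fix, ∃ t ∈ D.diagonalSubgroup F ⊓ τ.fix, ∃ e ∈ T,
      ∃ v ∈ τ.V (f.flat e.word), y = u * t * nW F h.good (f.flat e.word) * v := by
  have g := h.good
  obtain ⟨b, hb, n, hn, s, hs, v, hv, e0⟩ := normal_form_exists h (τ.fix_le_group hy)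
  obtain ⟨n', hn', s', hmn, hs', -⟩ := τ.maps_monomial hn hs
  obtain ⟨b', hb', hmb⟩ := τ.maps_borel hb
  obtain ⟨v', hv', hmv⟩ := τ.maps_pos (UP_toNeg_le g s hv)
  have hy' : τ.Maps (b * n * v) (b * n * v) := by
    rw [← e0]; exact hy
  have ee := Maps.fun_eq τ hy' (Maps.mul τ (Maps.mul τ hmb hmn) hmv)
  have hH := bruhat_unique h hb (pos_le_borel (UP_toNeg_le g s hv)) hb' (pos_le_borel hv') hn hn' ee
  have hcomm := τ.fix_commutes hn hs hmn hH
  obtain ⟨w, hw, c, ew⟩ := monomial_exists_word g hn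
  have hsw : SameOn D s (wf A w) := fun r hr =>
    hs.unique (ew ▸ (acts_tor g c).mul (nW_acts g hw)) hr
  have hwc : ∀ r < D.nroots, wf A w (f.r r) = f.r (wf A w r) := fun r hr => by
    rw [← hsw r hr, ← hsw _ (τ.valid.r_lt r hr)]; exact hcomm r hr
  obtain ⟨e, he, hew⟩ := hT.complete w hw hwc
  set W := f.flat e.word
  have hWl : Letters D W := τ.valid.flat_letters (hT.letters e he)
  set m := nW F g W
  have hmfix : m ∈ τ.fix := τ.nFlat_fix (hT.letters e he)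
  have hmN : m ∈ D.monomialSubgroup F := nW_mem g hWl
  have hsame : SameOn D s (wf A W) := fun r hr => (hsw r hr).trans (hew r hr).symm
  obtain ⟨σ, hσ⟩ := exists_acts g (mul_mem hn (inv_mem hmN))
  have hσid : ∀ r < D.nroots, σ r = r := by
    intro r hr
    obtain ⟨q, hq, rfl⟩ : ∃ q < D.nroots, wf A W q = r :=
      ⟨_, wf_lt g hWl.reverse hr, wf_rev_right g hWl hr⟩
    have h1 := hσ.mul (nW_acts (F := F) g hWl)
    rw [inv_mul_cancel_right] at h1
    exact ((h1.unique hs hq).trans (hsame q hq))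
  have hd := mem_diag_of_id h (mul_mem hn (inv_mem hmN)) hσ hσid
  set B' := b * (n * m⁻¹) with hB'
  have hB'm : B' ∈ D.borelSubgroup F := mul_mem hb ((le_sup_right : _ ≤ D.borelSubgroup F) hd)
  have hP : UP F g (toNeg D s) = UP F g (toNeg D (wf A W)) := UP_congr g fun r =>
    ⟨fun hr => ⟨hr.1, hsame r hr.1.1 ▸ hr.2⟩, fun hr => ⟨hr.1, (hsame r hr.1.1).symm ▸ hr.2⟩⟩
  rw [hP] at hv
  have hyB : y = B' * m * v := by rw [e0, hB']; group
  have hWc := fun (r : ℕ) (hr : r < D.nroots) =>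
    Fold.Valid.flat_comm g τ.valid (hT.letters e he) hr
  obtain ⟨v'', hv'', hmv''⟩ := τ.maps_toNeg hWl hWc hv
  obtain ⟨B'', hB'', hmB⟩ := τ.maps_borel hB'm
  have ee' : B' * m * v = B'' * m * v'' :=
    Maps.fun_eq τ (by rw [← hyB]; exact hy) (Maps.mul τ (Maps.mul τ hmB hmfix) hmv'')
  obtain ⟨eB, ev⟩ := normal_form_unique h (nW_acts g hWl) hB'm hB'' hv hv'' ee'
  rw [← eB] at hmB
  rw [← ev] at hmv''
  obtain ⟨u, hu, d, eu⟩ := (mem_borel_iff g).1 hB'm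
  obtain ⟨u', hu', hmu⟩ := τ.maps_pos hu
  have hmd := τ.maps_tor d
  set d' : Fin D.rank → Fˣ := ∏ i : Fin D.rank, Pi.mulSingle (⟨f.p i, τ.valid.p_lt i i.isLt⟩ : Fin D.rank)
    (Units.map (τ.psi i : F →+* F).toMonoidHom (d i))
  have e2 : u * tor D A d = u' * tor D A d' :=
    Maps.fun_eq τ (by rw [← eu]; exact hmB) (Maps.mul τ hmu hmd)
  have h3 : u'⁻¹ * u = tor D A d' * (tor D A d)⁻¹ := by
    rw [eq_mul_inv_iff_mul_eq, mul_assoc, e2, inv_mul_cancel_left]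
  have h4 : u'⁻¹ * u = 1 := Subgroup.mem_bot.1 ((posUnipotent_inf_diagonal (F := F) h).le
    (Subgroup.mem_inf.2 ⟨mul_mem (inv_mem hu') hu, by
      rw [h3, diagonalSubgroup_eq g, ← map_inv, ← map_mul]; exact ⟨_, rfl⟩⟩))
  rw [inv_mul_eq_one] at h4
  subst h4
  have e3 : (tor D A d : GL D.Idx F) = tor D A d' := mul_left_cancel e2
  rw [← e3] at hmd
  refine ⟨u', ⟨hu', hmu⟩, tor D A d, ⟨?_, hmd⟩, e, he, v, ⟨hv, hmv''⟩, ?_⟩
  · rw [SetLike.mem_coe, diagonalSubgroup_eq g]; exact ⟨d, rfl⟩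
  · rw [hyB, eu]

/-- uniqueness of the normal form -/
theorem fix_unique {T : List FState} (hT : FTabOK D A f T)
    {u u' t t' v v' : GL D.Idx F} {e e' : FState} (hu : u ∈ D.posUnipotent F)
    (hu' : u' ∈ D.posUnipotent F) (ht : t ∈ D.diagonalSubgroup F) (ht' : t' ∈ D.diagonalSubgroup F)
    (he : e ∈ T) (he' : e' ∈ T) (hv : v ∈ τ.V (f.flat e.word)) (hv' : v' ∈ τ.V (f.flat e'.word))
    (eq : u * t * nW F h.good (f.flat e.word) * v = u' * t' * nW F h.good (f.flat e'.word) * v') :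
    u = u' ∧ t = t' ∧ e = e' ∧ v = v' := by
  have g := h.good
  have hWl := τ.valid.flat_letters (hT.letters e he)
  have hWl' := τ.valid.flat_letters (hT.letters e' he')
  have hb : u * t ∈ D.borelSubgroup F :=
    mul_mem (pos_le_borel hu) ((le_sup_right : _ ≤ D.borelSubgroup F) ht)
  have hb' : u' * t' ∈ D.borelSubgroup F :=
    mul_mem (pos_le_borel hu') ((le_sup_right : _ ≤ D.borelSubgroup F) ht')
  have hH := bruhat_unique h hb (pos_le_borel (τ.V_le_pos _ hv).1) hb'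
    (pos_le_borel (τ.V_le_pos _ hv').1) (nW_mem g hWl) (nW_mem g hWl') eq
  have hee : e = e' := by
    refine hT.distinct e he e' he' fun r hr => ?_
    rw [diagonalSubgroup_eq g] at hH
    obtain ⟨c, hc⟩ := hH
    have e1 : nW F g (f.flat e'.word) = nW F g (f.flat e.word) * tor D A c := by rw [hc]; group
    have := nW_acts (F := F) g hWl'
    rw [e1] at this
    exact ((nW_acts g hWl).mul (acts_tor g c)).unique this hr
  subst hee
  obtain ⟨e1, e2⟩ := normal_form_unique h (nW_acts g hWl) hb hb' hv.1 hv'.1 eq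
  have h3 : u'⁻¹ * u = t' * t⁻¹ := by
    rw [eq_mul_inv_iff_mul_eq, mul_assoc, e1, inv_mul_cancel_left]
  have h4 : u'⁻¹ * u = 1 := Subgroup.mem_bot.1 ((posUnipotent_inf_diagonal (F := F) h).le
    (Subgroup.mem_inf.2 ⟨mul_mem (inv_mem hu') hu, h3 ▸ mul_mem ht' (inv_mem ht)⟩))
  rw [inv_mul_eq_one] at h4
  subst h4
  exact ⟨rfl, mul_left_cancel e1, rfl, e2⟩

/-- the order of the fixed points -/
theorem card_fix [Fintype F] {T : List FState} (hT : FTabOK D A f T) :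
    Nat.card τ.fix = Nat.card ↥(D.posUnipotent F ⊓ τ.fix) *
      Nat.card ↥(D.diagonalSubgroup F ⊓ τ.fix) *
      (T.map fun e => Nat.card ↥(τ.V (f.flat e.word))).sum := by
  classical
  have : Finite (GL D.Idx F) := finite_GL
  let I := {e : FState // e ∈ T}
  haveI : Fintype I := Fintype.ofList (T.attach) (fun x => List.mem_attach T x)
  let F0 : (↥(D.posUnipotent F ⊓ τ.fix) × ↥(D.diagonalSubgroup F ⊓ τ.fix)) ×
      (Σ e : I, ↥(τ.V (f.flat e.1.word))) → ↥τ.fix := fun p =>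
    ⟨p.1.1.1 * p.1.2.1 * nW F h.good (f.flat p.2.1.1.word) * p.2.2.1,
      mul_mem (mul_mem (mul_mem p.1.1.2.2 p.1.2.2.2) (τ.nFlat_fix (hT.letters _ p.2.1.2))) p.2.2.2.2⟩
  have hF : Function.Bijective F0 := by
    constructor
    · rintro ⟨⟨⟨u, hu⟩, ⟨t, ht⟩⟩, ⟨e, he⟩, ⟨v, hv⟩⟩ ⟨⟨⟨u', hu'⟩, ⟨t', ht'⟩⟩, ⟨e', he'⟩, ⟨v', hv'⟩⟩ eq
      obtain ⟨rfl, rfl, rfl, rfl⟩ :=
        τ.fix_unique hT hu.1 hu'.1 ht.1 ht'.1 he he' hv hv' (congrArg Subtype.val eq)
      rfl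
    · rintro ⟨y, hy⟩
      obtain ⟨u, hu, t, ht, e, he, v, hv, rfl⟩ := τ.fix_decomp hT hy
      exact ⟨((⟨u, hu⟩, ⟨t, ht⟩), ⟨⟨e, he⟩, ⟨v, hv⟩⟩), rfl⟩
  rw [← Nat.card_congr (Equiv.ofBijective F0 hF), Nat.card_prod, Nat.card_prod, Nat.card_sigma]
  congr 1
  rw [← List.sum_toFinset (fun e : FState => Nat.card ↥(τ.V (f.flat e.word))) hT.nodup]
  exact (Finset.sum_subtype T.toFinset (fun x => List.mem_toFinset)
    (fun e : FState => Nat.card ↥(τ.V (f.flat e.word)))).symm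

/-- splitting off an orbit from the right -/
lemma V_split [Fintype F] {w : List ℕ} (hw : Letters D w)
    (hc : ∀ r < D.nroots, wf A w (f.r r) = f.r (wf A w r)) {j i : ℕ} (hj : j < f.num)
    (hi : i ∈ f.J j) (hn : ¬ D.IsPosRoot (wf A w (D.simple i))) :
    Nat.card ↥(τ.V w) = Nat.card ↥(τ.V (w ++ f.w j)) * Nat.card ↥(τ.V (f.w j)) ∧
      ∀ X : Subgroup (GL D.Idx F), τ.nJ j ∈ X → τ.V (w ++ f.w j) ≤ X → τ.V (f.w j) ≤ X →
        τ.V w ≤ X := by
  classical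
  have g := h.good
  have v := τ.valid
  have : Finite (GL D.Idx F) := finite_GL
  have hlJ := v.letters hj
  set wJ := f.w j
  set m := τ.nJ j with hm
  have hmA : Acts g m (wf A wJ) := nW_acts g hlJ
  have hwlt := fun {r} (hr : r < D.nroots) => wf_lt g hlJ hr
  have hkey : ∀ r, toNeg D (wf A (w ++ wJ)) r →
      toNeg D (wf A w) (wf A wJ r) ∧ D.IsPosRoot (wf A wJ r) := by
    intro r hr
    have hr1 := hr.1
    have hr2 := hr.2
    rw [wf_append] at hr2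
    have hy := hwlt hr1.1
    suffices D.IsPosRoot (wf A wJ r) from ⟨⟨this, hr2⟩, this⟩
    by_contra hneg
    have hyp := (pos_or_pos_neg g hy).resolve_left hneg
    have h2 : ¬ D.IsPosRoot (wf A wJ (A.neg (wf A wJ r))) := by
      rw [(wf_rootMap g hlJ).map_neg g hy, v.w_invol j hj r hr1.1]
      exact not_pos_neg g hr1
    have h3 := Fold.Valid.inverts_orbit g v hw hc hj hi hn hyp h2
    rw [(wf_rootMap g hw).map_neg g hy] at h3
    rcases pos_or_pos_neg g (wf_lt g hw hy) with h' | h'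
    · exact not_pos_of_isNeg g hr2 h'
    · exact h3 h'
  have hJle : UP F g (toNeg D (wf A wJ)) ≤ UP F g (toNeg D (wf A w)) := UP_le fun r t hr =>
    xG_mem_UP g (P := toNeg D (wf A w)) ⟨hr.1, isNeg_of_not_pos g (wf_lt g hw hr.1.1)
      (Fold.Valid.inverts_orbit g v hw hc hj hi hn hr.1 (not_pos_of_isNeg g hr.2))⟩ t
  have hconj : ∀ a ∈ UP F g (toNeg D (wf A (w ++ wJ))), m * a * m⁻¹ ∈ UP F g (toNeg D (wf A w)) :=
    fun a ha => conj_UP_le hmA (fun r hr => hr.1.1)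
      (fun r t hr => xG_mem_UP g (P := toNeg D (wf A w)) (hkey r hr).1 t) ha
  have hback : ∀ a ∈ UP F g (toNeg D (wf A (w ++ wJ))),
      m * (m * a * m⁻¹) * m⁻¹ ∈ D.posUnipotent F := by
    intro a ha
    rw [show m * (m * a * m⁻¹) * m⁻¹ = (m * m) * a * (m * m)⁻¹ by group]
    refine conj_UP_le (hmA.mul hmA) (fun r hr => hr.1.1) (fun r t hr => ?_) ha
    rw [Function.comp_apply, v.w_invol j hj r hr.1.1]
    exact xG_mem_posUnipotent g hr.1 t
  let Φ : ↥(UP F g (toNeg D (wf A (w ++ wJ)))) × ↥(UP F g (toNeg D (wf A wJ))) →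
      ↥(UP F g (toNeg D (wf A w))) := fun p =>
    ⟨m * p.1.1 * m⁻¹ * p.2.1, mul_mem (hconj _ p.1.2) (hJle p.2.2)⟩
  have hinj : Function.Injective Φ := by
    rintro ⟨⟨a, ha⟩, ⟨c, hc'⟩⟩ ⟨⟨a', ha'⟩, ⟨c', hc''⟩⟩ e
    have e' : m * a * m⁻¹ * c = m * a' * m⁻¹ * c' := congrArg Subtype.val e
    have e2 : m * (m * a * m⁻¹) * m⁻¹ * m * c = m * (m * a' * m⁻¹) * m⁻¹ * m * c' := by
      rw [inv_mul_cancel_right, inv_mul_cancel_right]
      simp only [mul_assoc] at e' ⊢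
      rw [e']
    obtain ⟨e3, rfl⟩ := normal_form_unique h hmA (pos_le_borel (hback a ha))
      (pos_le_borel (hback a' ha')) hc' hc'' e2
    obtain rfl : a = a' := by simpa using e'
    rfl
  have hbij : Function.Bijective Φ := by
    rw [Nat.bijective_iff_injective_and_card]
    refine ⟨hinj, ?_⟩
    have e : ∀ u, Letters D u → Nat.card ↥(UP F g (toNeg D (wf A u))) =
        Fintype.card F ^ nInv D A u := fun u hu => by
      rw [card_toNeg h (nW_acts (F := F) g hu)]; rfl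
    rw [Nat.card_prod, e w hw, e _ (hw.append hlJ), e wJ hlJ, ← pow_add,
      Fold.Valid.nInv_descent g v hw hc hj hi hn]
  have hc1 : ∀ r < D.nroots, wf A (w ++ wJ) (f.r r) = f.r (wf A (w ++ wJ) r) := by
    intro r hr
    rw [wf_append, wf_append, v.w_comm j hj r hr, hc _ (hwlt hr)]
  have hmfix : m ∈ τ.fix := τ.nJ_fix hj
  have hiff : ∀ p, ((Φ p : ↥(UP F g (toNeg D (wf A w)))) : GL D.Idx F) ∈ τ.fix ↔
      (p.1.1 ∈ τ.fix ∧ p.2.1 ∈ τ.fix) := by
    rintro ⟨⟨a, ha⟩, ⟨c, hc'⟩⟩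
    refine ⟨fun hfix => ?_, fun hh => mul_mem (mul_mem (mul_mem hmfix hh.1) (inv_mem hmfix)) hh.2⟩
    obtain ⟨a', ha', hma⟩ := τ.maps_toNeg (hw.append hlJ) hc1 ha
    obtain ⟨c', hc'', hmc⟩ := τ.maps_toNeg hlJ (v.w_comm j hj) hc'
    have hmΦ := Maps.mul τ (Maps.mul τ (Maps.mul τ hmfix hma) (Maps.inv τ hmfix)) hmc
    have hEq := Maps.fun_eq τ hfix hmΦ
    have := hinj (a₁ := (⟨a, ha⟩, ⟨c, hc'⟩)) (a₂ := (⟨a', ha'⟩, ⟨c', hc''⟩)) (Subtype.ext hEq)
    rw [Prod.ext_iff] at this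
    obtain ⟨e1, e2⟩ := this
    rw [Subtype.ext_iff] at e1 e2
    dsimp only at e1 e2
    subst e1 e2
    exact ⟨hma, hmc⟩
  refine ⟨?_, fun X hX h1 h2 y hy => ?_⟩
  · let Ψ : ↥(τ.V (w ++ wJ)) × ↥(τ.V wJ) → ↥(τ.V w) := fun p =>
      ⟨(Φ (⟨p.1.1, p.1.2.1⟩, ⟨p.2.1, p.2.2.1⟩)).1,
        (Φ (⟨p.1.1, p.1.2.1⟩, ⟨p.2.1, p.2.2.1⟩)).2, (hiff _).2 ⟨p.1.2.2, p.2.2.2⟩⟩
    have hΨ : Function.Bijective Ψ := by
      constructor
      · rintro ⟨⟨a, ha⟩, ⟨c, hc'⟩⟩ ⟨⟨a', ha'⟩, ⟨c', hc''⟩⟩ e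
        have h0 := congrArg Subtype.val e
        have := hinj (Subtype.ext h0 :
          Φ (⟨a, ha.1⟩, ⟨c, hc'.1⟩) = Φ (⟨a', ha'.1⟩, ⟨c', hc''.1⟩))
        simp only [Prod.mk.injEq, Subtype.mk.injEq] at this
        obtain ⟨rfl, rfl⟩ := this
        rfl
      · rintro ⟨y, hy⟩
        obtain ⟨p, hp⟩ := hbij.2 ⟨y, hy.1⟩
        have hp' := (hiff p).1 (by rw [hp]; exact hy.2)
        exact ⟨(⟨p.1.1, p.1.2, hp'.1⟩, ⟨p.2.1, p.2.2, hp'.2⟩), Subtype.ext (congrArg Subtype.val hp : _)⟩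
    rw [← Nat.card_congr (Equiv.ofBijective Ψ hΨ), Nat.card_prod]
  · obtain ⟨p, hp⟩ := hbij.2 ⟨y, hy.1⟩
    have hp' := (hiff p).1 (by rw [hp]; exact hy.2)
    have : y = m * p.1.1 * m⁻¹ * p.2.1 := (congrArg Subtype.val hp).symm
    rw [this]
    exact mul_mem (mul_mem (mul_mem hX (h1 ⟨p.1.2, hp'.1⟩)) (inv_mem hX)) (h2 ⟨p.2.2, hp'.2⟩)

/-- the fixed unipotent parts from their orbit pieces -/
theorem V_rec [Fintype F] {X : Subgroup (GL D.Idx F)}
    (hn : ∀ j < f.num, τ.nJ j ∈ X) (hX : ∀ j < f.num, τ.V (f.w j) ≤ X)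
    {d : ℕ} {sz : ℕ → ℕ} (hsz : ∀ j < f.num, nInv D A (f.w j) = d * sz j) {q : ℕ}
    (hq : ∀ j < f.num, Nat.card ↥(τ.V (f.w j)) = q ^ sz j) {w : List ℕ} (hw : Letters D w)
    (hc : ∀ r < D.nroots, wf A w (f.r r) = f.r (wf A w r)) :
    τ.V w ≤ X ∧ ∃ N, nInv D A w = d * N ∧ Nat.card ↥(τ.V w) = q ^ N := by
  induction hk : nInv D A w using Nat.strong_induction_on generalizing w with
  | _ k ih =>
    have g := h.good
    rcases Fold.Valid.exists_descent g hw with hid | ⟨i, hi, hneg⟩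
    · rw [τ.V_id hid]
      refine ⟨bot_le, 0, ?_, by simp⟩
      rw [← hk, nInv_congr (w' := []) hid, nInv_nil, mul_zero]
    obtain ⟨j, hj, hij⟩ := τ.valid.cover i hi
    have hlJ := τ.valid.letters hj
    obtain ⟨hcard, hle⟩ := τ.V_split hw hc hj hij hneg
    have hc' : ∀ s < D.nroots, wf A (w ++ f.w j) (f.r s) = f.r (wf A (w ++ f.w j) s) := by
      intro s hs
      rw [wf_append, wf_append, τ.valid.w_comm j hj s hs, hc _ (wf_lt g hlJ hs)]
    have h1 := Fold.Valid.nInv_descent g τ.valid hw hc hj hij hneg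
    have h2 := Fold.Valid.nInv_orbit_pos g τ.valid hj
    obtain ⟨hle', N, hN, hcard'⟩ := ih _ (by omega) (hw.append hlJ) hc' rfl
    refine ⟨hle X (hn j hj) hle' (hX j hj), N + sz j, ?_, ?_⟩
    · rw [← hk, h1, hN, hsz j hj, mul_add]
    · rw [hcard, hcard', hq j hj, pow_add]

/-- the fixed positive unipotent subgroup is the piece of the longest state -/
lemma pos_eq_V [Fintype F] {T : List FState} (hT : FTabOK D A f T) {e : FState} (he : e ∈ T)
    (hmax : e.cnt = D.posRoots.length) : D.posUnipotent F ⊓ τ.fix = τ.V (f.flat e.word) := by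
  classical
  have hWl := τ.valid.flat_letters (hT.letters e he)
  refine le_antisymm ?_ (τ.V_le_pos _)
  have hall : ∀ r, D.IsPosRoot r → toNeg D (wf A (f.flat e.word)) r := by
    intro r hr
    refine ⟨hr, isNeg_of_not_pos h.good (wf_lt h.good hWl hr.1) ?_⟩
    have h1 := hT.count e he
    rw [hmax, nInv, ← List.toFinset_card_of_nodup
      (show D.posRoots.Nodup from List.Nodup.filter _ List.nodup_range)] at h1
    exact Finset.filter_eq_self.1 (Finset.eq_of_subset_of_card_le (Finset.filter_subset _ _) h1.ge) r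
      (List.mem_toFinset.2 (posRoots_mem.2 hr))
  refine inf_le_inf_right _ ?_
  rw [posUnipotent_eq h.good, Subgroup.closure_le]
  rintro y ⟨r, t, hr, rfl⟩
  exact xG_mem_UP h.good (hall r hr) t

end Twist

end CfsgLib.Chev
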