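/-
Fixed points in the unipotent part of one orbit.
-/
import Cfsg.Agent.Lib.Chev.Twist.Fix

set_option autoImplicit false

namespace CfsgLib.Chev

open Cfsg.Lie Matrix

variable {D : ChevalleyDatum} {A : Aux} {F : Type*} [Field F]

/-- products of root elements as matrices -/
lemma prod_xG_val (g : Good D A) : ∀ L : List (ℕ × F),
    (((L.map fun c => xG g c.1 c.2).prod : GL D.Idx F) : Matrix D.Idx D.Idx F) = D.wordMat F L
  | [] => by simp [wordMat_nil]
  | (r, t) :: L => by
    rw [List.map_cons, List.prod_cons, Units.val_mul, prod_xG_val g L, xG_val, wordMat_cons]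

/-- exchanging two root elements -/
lemma xG_swap (h : Std D A) {r s : ℕ} (hr : r < D.nroots) (hs : s < D.nroots) (hsr : s ≠ r)
    (hsn : s ≠ A.neg r) (t u : F) :
    xG h.good s u * xG h.good r t = xG h.good r t * xG h.good s u *
      ((A.terms r s).map fun c => xG h.good c.1 ((c.2.1 : F) * (-t) ^ c.2.2.1 * u ^ c.2.2.2)).prod := by
  apply Units.ext
  have e := prod_xG_val (F := F) h.good (tword A r s t u)
  rw [tword, List.map_map] at e
  simp only [Function.comp_def] at e
  rw [Units.val_mul, Units.val_mul, Units.val_mul, e, xG_val, xG_val]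
  exact commF_all h hr hs hsr hsn t u

variable (D A) in
/-- the roots commute -/
noncomputable def commPair (r s : ℕ) : Bool :=
  decide (r < D.nroots ∧ s < D.nroots) &&
    (decide (r = s) || (decide (s ≠ A.neg r) && (A.terms r s).isEmpty))

lemma commute_xG (h : Std D A) {r s : ℕ} (e : commPair D A r s = true) (t u : F) :
    Commute (xG h.good r t) (xG h.good s u) := by
  simp only [commPair, Bool.and_eq_true, Bool.or_eq_true, decide_eq_true_eq, List.isEmpty_iff] at e
  obtain ⟨⟨hr, hs⟩, e⟩ := e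
  by_cases hrs : r = s
  · subst hrs
    show _ * _ = _ * _
    rw [xG_add, xG_add, add_comm]
  obtain ⟨hn, hT⟩ := e.resolve_left hrs
  have := xG_swap h hr hs (Ne.symm hrs) hn t u
  rw [hT] at this
  simp only [List.map_nil, List.prod_nil, mul_one] at this
  exact this.symm

lemma pw_eq_filter (g : Good D A) (P : ℕ → Bool) (T : ℕ → F) : ∀ L : List ℕ,
    pw g (L.filter P) T = pw g L fun r => if P r then T r else 0
  | [] => rfl
  | r :: L => by
    have ih := pw_eq_filter g P T L
    simp only [pw] at ih ⊢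
    by_cases hp : P r = true
    · rw [List.filter_cons_of_pos hp, List.map_cons, List.prod_cons, List.map_cons, List.prod_cons,
        if_pos hp, ih]
    · rw [List.filter_cons_of_neg hp, List.map_cons, List.prod_cons, if_neg hp, xG_zero, one_mul, ih]

/-- coordinates in a sublist of the positive roots are unique -/
lemma pw_filter_inj (h : Std D A) {L : List ℕ} (hL : D.posRoots.filter (fun r => L.contains r) = L)
    {T T' : ℕ → F} (e : pw h.good L T = pw h.good L T') : ∀ r ∈ L, T r = T' r := by
  intro r hr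
  rw [← hL, pw_eq_filter, pw_eq_filter] at e
  have hr' : r ∈ D.posRoots := by
    rw [← hL, List.mem_filter] at hr; exact hr.1
  have := pw_inj h upList_posRoots e r hr'
  simpa [hr] using this

/-- coordinates on pairwise commuting positive roots are unique in any order -/
lemma pw_comm_inj (h : Std D A) {L : List ℕ} (hn : L.Nodup) (hp : ∀ r ∈ L, D.IsPosRoot r)
    (hc : L.Pairwise fun r s => commPair D A r s = true)
    {T T' : ℕ → F} (e : pw h.good L T = pw h.good L T') : ∀ r ∈ L, T r = T' r := by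
  have hperm : L.Perm (D.posRoots.filter fun r => L.contains r) := by
    refine (List.perm_ext_iff_of_nodup hn
      ((show D.posRoots.Nodup from List.Nodup.filter _ List.nodup_range).filter _)).2 fun r => ?_
    simp only [List.mem_filter, List.contains_iff_mem, posRoots_mem]
    exact ⟨fun hr => ⟨hp r hr, hr⟩, And.right⟩
  have key : ∀ T : ℕ → F, pw h.good L T = pw h.good (D.posRoots.filter fun r => L.contains r) T := by
    intro T
    refine (hperm.map _).prod_eq' ?_
    rw [List.pairwise_map]
    exact hc.imp fun {a b} hab => commute_xG h hab _ _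
  rw [key, key, pw_eq_filter, pw_eq_filter] at e
  intro r hr
  have := pw_inj h upList_posRoots e r (posRoots_mem.2 (hp r hr))
  simpa [hr] using this

namespace Twist

variable {h : Std D A} {f : Fold} (τ : Twist F h f)

/-- fixed points of a parametrised orbit subgroup -/
theorem class_fix [Fintype F] {j : ℕ} (hj : j < f.num) {X : Type*} [Fintype X] {W : X → GL D.Idx F}
    (hW : Function.Injective W) (hmem : ∀ x, W x ∈ UP F h.good (toNeg D (wf A (f.w j))))
    (hcard : Fintype.card X = Fintype.card F ^ nInv D A (f.w j)) {Φ : X → X}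
    (hΦ : ∀ x, τ.Maps (W x) (W (Φ x))) :
    Nat.card ↥(τ.V (f.w j)) = Nat.card {x // Φ x = x} ∧
      ∀ y, y ∈ τ.V (f.w j) ↔ ∃ x, Φ x = x ∧ W x = y := by
  have hl := τ.valid.letters hj
  have : Finite (GL D.Idx F) := finite_GL
  have hsurj : ∀ y ∈ UP F h.good (toNeg D (wf A (f.w j))), ∃ x, W x = y := by
    intro y hy
    have hb : Function.Bijective (fun x =>
        (⟨W x, hmem x⟩ : ↥(UP F h.good (toNeg D (wf A (f.w j)))))) := by
      rw [Nat.bijective_iff_injective_and_card]
      refine ⟨fun a b e => hW (congrArg Subtype.val e), ?_⟩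
      rw [card_toNeg h (nW_acts (F := F) h.good hl), Nat.card_eq_fintype_card, hcard]
      rfl
    obtain ⟨x, hx⟩ := hb.2 ⟨y, hy⟩
    exact ⟨x, congrArg Subtype.val hx⟩
  have hiff : ∀ y, y ∈ τ.V (f.w j) ↔ ∃ x, Φ x = x ∧ W x = y := by
    intro y
    constructor
    · rintro ⟨hy, hfix⟩
      obtain ⟨x, rfl⟩ := hsurj y hy
      exact ⟨x, hW (Maps.fun_eq τ (hΦ x) hfix), rfl⟩
    · rintro ⟨x, hx, rfl⟩
      refine ⟨hmem x, ?_⟩
      have := hΦ x
      rwa [hx] at this
  refine ⟨?_, hiff⟩
  refine (Nat.card_congr (Equiv.ofBijective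
    (fun x : {x // Φ x = x} => (⟨W x.1, (hiff _).2 ⟨x.1, x.2, rfl⟩⟩ : ↥(τ.V (f.w j))))
    ⟨fun a b e => Subtype.ext (hW (congrArg Subtype.val e)), fun y => ?_⟩)).symm
  obtain ⟨x, hx, e⟩ := (hiff _).1 y.2
  exact ⟨⟨x, hx⟩, Subtype.ext e⟩

variable (D A) in
/-- the roots of an orbit -/
noncomputable def orbitIs (f : Fold) (j : ℕ) (L : List ℕ) : Bool :=
  (List.range D.nroots).all (fun r =>
    decide ((posB D A r && !(posB D A (wf A (f.w j) r))) = L.contains r)) &&
  decide (L.Nodup) && L.all (fun r => decide (r < D.nroots))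

include τ in
lemma orbit_roots {j : ℕ} (hj : j < f.num) {L : List ℕ} (e : orbitIs D A f j L = true) :
    L.Nodup ∧ (∀ r, toNeg D (wf A (f.w j)) r ↔ r ∈ L) ∧ nInv D A (f.w j) = L.length := by
  have g := h.good
  simp only [orbitIs, Bool.and_eq_true, List.all_eq_true, List.mem_range, decide_eq_true_eq] at e
  obtain ⟨⟨e1, hn⟩, hlt⟩ := e
  have hl := τ.valid.letters hj
  have hiff : ∀ r, r < D.nroots →
      ((D.IsPosRoot r ∧ ¬ D.IsPosRoot (wf A (f.w j) r)) ↔ r ∈ L) := by
    intro r hr
    rw [← posB_iff g hr, ← posB_iff g (wf_lt g hl hr), ← List.contains_iff_mem, ← e1 r hr]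
    simp
  refine ⟨hn, fun r => ⟨fun hr => (hiff r hr.1.1).1 ⟨hr.1, not_pos_of_isNeg g hr.2⟩, fun hr => ?_⟩, ?_⟩
  · obtain ⟨h1, h2⟩ := (hiff r (hlt r hr)).2 hr
    exact ⟨h1, isNeg_of_not_pos g (wf_lt g hl h1.1) h2⟩
  · classical
    rw [nInv, ← List.toFinset_card_of_nodup hn]
    congr 1
    ext r
    simp only [Finset.mem_filter, List.mem_toFinset, posRoots_mem]
    exact ⟨fun hr => (hiff r hr.1.1).1 hr, fun hr => (hiff r (hlt r hr)).2 hr⟩

/-- an orbit of one root -/
theorem class_one [Fintype F] {j r : ℕ} (hj : j < f.num) (e : orbitIs D A f j [r] = true)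
    (hr : f.r r = r) :
    Nat.card ↥(τ.V (f.w j)) = Nat.card {t : F // τ.phi r t = t} ∧
      ∀ y, y ∈ τ.V (f.w j) ↔ ∃ t, τ.phi r t = t ∧ xG h.good r t = y := by
  obtain ⟨-, hiff, hN⟩ := τ.orbit_roots hj e
  have hp := (hiff r).2 List.mem_cons_self
  refine τ.class_fix hj (W := fun t => xG h.good r t) (fun a b e' => ?_)
    (fun t => xG_mem_UP h.good hp t) (by simp [hN]) (Φ := τ.phi r) fun t => ?_
  · have := xG_eq_one h hp.1.1 (t := a - b) (by
      have e'' : xG h.good r a = xG h.good r b := e'
      rw [sub_eq_add_neg, ← xG_add, ← xG_inv, e'', mul_inv_cancel])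
    exact sub_eq_zero.1 this
  · have := τ.maps_xG hp.1.1 t
    rwa [hr] at this

/-- an orbit of two commuting roots -/
theorem class_two [Fintype F] {j r s : ℕ} (hj : j < f.num) (e : orbitIs D A f j [r, s] = true)
    (hc : commPair D A r s = true) (hr : f.r r = s) (hs : f.r s = r)
    (hinv : ∀ t, τ.phi s (τ.phi r t) = t) :
    Nat.card ↥(τ.V (f.w j)) = Fintype.card F ∧
      ∀ y, y ∈ τ.V (f.w j) ↔ ∃ t, xG h.good r t * xG h.good s (τ.phi r t) = y := by
  obtain ⟨hn, hiff, hN⟩ := τ.orbit_roots hj e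
  have hpr := (hiff r).2 List.mem_cons_self
  have hps := (hiff s).2 (by simp)
  have hrs : r ≠ s := by simpa using hn
  obtain ⟨hcard, hmem⟩ := τ.class_fix hj (W := fun p : F × F => xG h.good r p.1 * xG h.good s p.2)
    (fun a b e' => by
      let T : F × F → ℕ → F := fun p x => if x = r then p.1 else p.2
      have hh : ∀ p, xG h.good r p.1 * xG h.good s p.2 = pw h.good [r, s] (T p) := fun p => by
        simp [pw, T, hrs.symm]
      have e'' : xG h.good r a.1 * xG h.good s a.2 = xG h.good r b.1 * xG h.good s b.2 := e'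
      rw [hh, hh] at e''
      have hcomm : [r, s].Pairwise fun x y => commPair D A x y = true := by simp [hc]
      have h2 := pw_comm_inj h hn (by simp [hpr.1, hps.1]) hcomm e''
      exact Prod.ext (by simpa [T] using h2 r (by simp)) (by simpa [T, hrs.symm] using h2 s (by simp)))
    (fun p => mul_mem (xG_mem_UP h.good hpr _) (xG_mem_UP h.good hps _))
    (by rw [Fintype.card_prod, hN]; simp [sq])
    (Φ := fun p => (τ.phi s p.2, τ.phi r p.1)) fun p => by
      have h1 := τ.maps_xG hpr.1.1 p.1
      have h2 := τ.maps_xG hps.1.1 p.2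
      rw [hr] at h1
      rw [hs] at h2
      have := Maps.mul τ h1 h2
      rwa [(commute_xG h hc _ _).symm.eq] at this
  refine ⟨?_, fun y => (hmem y).trans ?_⟩
  · rw [hcard, ← Nat.card_eq_fintype_card]
    refine Nat.card_congr
      { toFun := fun p => p.1.1
        invFun := fun t => ⟨(t, τ.phi r t), by rw [hinv]⟩
        left_inv := fun p => Subtype.ext (Prod.ext rfl (congrArg Prod.snd p.2 :))
        right_inv := fun t => rfl }
  · constructor
    · rintro ⟨p, hp, rfl⟩
      exact ⟨p.1, by rw [show τ.phi r p.1 = p.2 from congrArg Prod.snd hp]⟩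
    · rintro ⟨t, rfl⟩
      exact ⟨(t, τ.phi r t), by rw [hinv], rfl⟩

/-- an orbit of three commuting roots -/
theorem class_three [Fintype F] {j r s u : ℕ} (hj : j < f.num)
    (e : orbitIs D A f j [r, s, u] = true) (h1 : commPair D A r s = true)
    (h2 : commPair D A r u = true) (h3 : commPair D A s u = true) (hr : f.r r = s) (hs : f.r s = u)
    (hu : f.r u = r) (hinv : ∀ t, τ.phi u (τ.phi s (τ.phi r t)) = t) :
    Nat.card ↥(τ.V (f.w j)) = Fintype.card F ∧
      ∀ y, y ∈ τ.V (f.w j) ↔ ∃ t, xG h.good r t * xG h.good s (τ.phi r t) *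
        xG h.good u (τ.phi s (τ.phi r t)) = y := by
  obtain ⟨hn, hiff, hN⟩ := τ.orbit_roots hj e
  have hpr := (hiff r).2 List.mem_cons_self
  have hps := (hiff s).2 (by simp)
  have hpu := (hiff u).2 (by simp)
  obtain ⟨⟨hrs, hru⟩, hsu⟩ : (r ≠ s ∧ r ≠ u) ∧ s ≠ u := by simpa using hn
  obtain ⟨hcard, hmem⟩ := τ.class_fix hj
    (W := fun p : F × F × F => xG h.good r p.1 * xG h.good s p.2.1 * xG h.good u p.2.2)
    (fun a b e' => by
      let T : F × F × F → ℕ → F := fun p x => if x = r then p.1 else if x = s then p.2.1 else p.2.2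
      have hh : ∀ p, xG h.good r p.1 * xG h.good s p.2.1 * xG h.good u p.2.2 =
          pw h.good [r, s, u] (T p) := fun p => by
        simp [pw, T, hrs.symm, hru.symm, hsu.symm, mul_assoc]
      have e'' : xG h.good r a.1 * xG h.good s a.2.1 * xG h.good u a.2.2 =
          xG h.good r b.1 * xG h.good s b.2.1 * xG h.good u b.2.2 := e'
      rw [hh, hh] at e''
      have hcomm : [r, s, u].Pairwise fun x y => commPair D A x y = true := by simp [h1, h2, h3]
      have hz := pw_comm_inj h hn (by simp [hpr.1, hps.1, hpu.1]) hcomm e''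
      exact Prod.ext (by simpa [T] using hz r (by simp))
        (Prod.ext (by simpa [T, hrs.symm] using hz s (by simp))
          (by simpa [T, hru.symm, hsu.symm] using hz u (by simp))))
    (fun p => mul_mem (mul_mem (xG_mem_UP h.good hpr _) (xG_mem_UP h.good hps _))
      (xG_mem_UP h.good hpu _))
    (by rw [Fintype.card_prod, Fintype.card_prod, hN]; simp [pow_succ, mul_assoc])
    (Φ := fun p => (τ.phi u p.2.2, τ.phi r p.1, τ.phi s p.2.1)) fun p => by
      have m1 := τ.maps_xG hpr.1.1 p.1
      have m2 := τ.maps_xG hps.1.1 p.2.1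
      have m3 := τ.maps_xG hpu.1.1 p.2.2
      rw [hr] at m1
      rw [hs] at m2
      rw [hu] at m3
      have := Maps.mul τ (Maps.mul τ m1 m2) m3
      have hc : Commute (xG h.good r (τ.phi u p.2.2))
          (xG h.good s (τ.phi r p.1) * xG h.good u (τ.phi s p.2.1)) :=
        (commute_xG h h1 _ _).mul_right (commute_xG h h2 _ _)
      rw [← hc.eq, ← mul_assoc] at this
      exact this
  refine ⟨?_, fun y => (hmem y).trans ?_⟩
  · rw [hcard, ← Nat.card_eq_fintype_card]
    refine Nat.card_congr
      { toFun := fun p => p.1.1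
        invFun := fun t => ⟨(t, τ.phi r t, τ.phi s (τ.phi r t)), by rw [hinv]⟩
        left_inv := fun p => by
          obtain ⟨⟨a, b, c⟩, hp⟩ := p
          simp only [Prod.mk.injEq] at hp
          refine Subtype.ext ?_
          simp only [Prod.mk.injEq, true_and]
          exact ⟨hp.2.1, by rw [hp.2.1, hp.2.2]⟩
        right_inv := fun t => rfl }
  · constructor
    · rintro ⟨⟨a, b, c⟩, hp, rfl⟩
      simp only [Prod.mk.injEq] at hp
      exact ⟨a, by rw [hp.2.1, hp.2.2]⟩
    · rintro ⟨t, rfl⟩
      exact ⟨(t, τ.phi r t, τ.phi s (τ.phi r t)), by rw [hinv], rfl⟩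

end Twist

end CfsgLib.Chev
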