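/-
The split (B,N)-pair of the fixed points of a folded endomorphism: axioms, Weyl group, trivial core, simplicity.
-/
import Cfsg.Agent.Lib.Chev.Twist.Fix
import Cfsg.Agent.Lib.Chev.BN2
import Cfsg.Agent.Lib.Chev.BNCoxeter
import Cfsg.Agent.Lib.Chev.BNSimple

set_option autoImplicit false

namespace CfsgLib.Chev

open Cfsg.Lie Matrix

variable {D : ChevalleyDatum} {A : Aux} {F : Type*} [Field F]

/-- orbits are disjoint and their reflections do not split into commuting parts -/
noncomputable def foldExtra (D : ChevalleyDatum) (A : Aux) (f : Fold) : Bool :=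
  (List.range f.num).all (fun j => (List.range f.num).all fun k =>
    decide (j = k) || (f.J j).all fun i => !((f.J k).contains i)) &&
  (List.range f.num).all fun k => decide (k = 0) || (List.range k).any fun j =>
    !((List.range D.rank).all fun i =>
      decide (wf A (f.w j ++ f.w k) (D.simple i) = wf A (f.w k ++ f.w j) (D.simple i)))

/-- the orders of the products of two orbit reflections -/
noncomputable def orbCox (D : ChevalleyDatum) (A : Aux) (f : Fold) {n : ℕ}
    (M : Fin n → Fin n → ℕ) : Bool :=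
  decide (n = f.num) &&
  (List.finRange n).all fun i => (List.finRange n).all fun j =>
    decide (0 < M i j) && (List.range (M i j + 1)).all fun k =>
      decide (0 < k → (((List.range D.rank).all fun m =>
        decide (wf A (f.flat (List.replicate k [i.val, j.val]).flatten) (D.simple m) = D.simple m)) =
          decide (k = M i j)))

/-- exchange along a bijection -/
lemma exchange_comp {ι ι' W : Type*} [Group W] {g : ι → W} (e : ι' ≃ ι) (h : Cox.Exchange g) :
    Cox.Exchange (g ∘ e) := by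
  have hm : ∀ l : List ι', (l.map (g ∘ e)).prod = ((l.map e).map g).prod := fun l => by
    rw [List.map_map]
  intro i l hl ⟨l', hl', hlen⟩
  have hr : Cox.Reduced g (l.map e) := by
    intro m hm'
    have := hl (m.map e.symm) (by rw [hm, hm, ← hm']; simp [Function.comp_def])
    simpa using this
  obtain ⟨a, x, c, e1, e2⟩ := h (e i) (l.map e) hr
    ⟨l'.map e, by rw [← hm, hl', hm]; rfl, by simpa using hlen⟩
  refine ⟨a.map e.symm, e.symm x, c.map e.symm, ?_, ?_⟩
  · have := congrArg (List.map e.symm) e1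
    simpa [Function.comp_def] using this
  · rw [hm, hm]
    simpa [Function.comp_def] using e2

/-- monomial elements with the same root map differ by the torus -/
lemma diag_of_sameOn (h : Std D A) {n m : GL D.Idx F} {s s' : ℕ → ℕ}
    (hn : n ∈ D.monomialSubgroup F) (hm : m ∈ D.monomialSubgroup F) (hs : Acts h.good n s)
    (hs' : Acts h.good m s') (e : SameOn D s s') : n * m⁻¹ ∈ D.diagonalSubgroup F := by
  obtain ⟨σ, hσ⟩ := exists_acts h.good (mul_mem hn (inv_mem hm))
  refine mem_diag_of_id h (mul_mem hn (inv_mem hm)) hσ fun r hr => ?_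
  obtain ⟨q, hq, rfl⟩ := hs'.surj hr
  have h1 := hσ.mul hs'
  rw [inv_mul_cancel_right] at h1
  exact (h1.unique hs hq).trans (e q hq)

/-- reflections of a set of fundamental indices fix the other coordinates -/
lemma wf_coord (g : Good D A) {w : List ℕ} (hw : Letters D w) {k : ℕ} (hk : k < D.rank)
    (hkw : k ∉ w) : ∀ {r : ℕ}, r < D.nroots → A.a (wf A w r) k = A.a r k := by
  induction w with
  | nil => exact fun _ => rfl
  | cons i w ih =>
    intro r hr
    have hki : k ≠ i := fun e => hkw (by simp [e])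
    show A.a (A.refl i (wf A w r)) k = _
    rw [g.a_refl i hw.head _ (wf_lt g hw.tail hr) k hk, if_neg hki, sub_zero,
      ih hw.tail (fun hh => hkw (List.mem_cons_of_mem _ hh)) hr]

/-- the diagonal subgroup from the Borel and monomial subgroups -/
lemma mem_diag_of_borel_monomial (h : Std D A) {y : GL D.Idx F} (h1 : y ∈ D.borelSubgroup F)
    (h2 : y ∈ D.monomialSubgroup F) : y ∈ D.diagonalSubgroup F := by
  rw [← borel_inf_monomial h]; exact ⟨h1, h2⟩

lemma diag_le_borel : D.diagonalSubgroup F ≤ D.borelSubgroup F := le_sup_right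

lemma diag_le_monomial_of_good (g : Good D A) : D.diagonalSubgroup F ≤ D.monomialSubgroup F := by
  rw [monomialSubgroup_eq g]; exact le_sup_left

/-- monomial elements normalise the diagonal subgroup -/
lemma conj_diag (g : Good D A) {n t : GL D.Idx F} (hn : n ∈ D.monomialSubgroup F)
    (ht : t ∈ D.diagonalSubgroup F) : n * t * n⁻¹ ∈ D.diagonalSubgroup F := by
  rw [diagonalSubgroup_eq g] at ht ⊢
  obtain ⟨c, rfl⟩ := ht
  obtain ⟨d, hd⟩ := monomial_conj_tor g hn c
  exact ⟨d, hd.symm⟩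

/-- the cells met by a word times a Borel element times a monomial element -/
lemma cell_word (h : Std D A) {P : ℕ → Prop} : ∀ {w : List ℕ}, Letters D w → (∀ i ∈ w, P i) →
    ∀ {n b : GL D.Idx F}, n ∈ D.monomialSubgroup F → b ∈ D.borelSubgroup F →
    ∃ v : List ℕ, Letters D v ∧ (∀ i ∈ v, P i) ∧ ∃ b₁ ∈ D.borelSubgroup F,
      ∃ b₂ ∈ D.borelSubgroup F, nW F h.good w * b * n = b₁ * (nW F h.good v * n) * b₂
  | [], _, _, n, b, _, hb => ⟨[], fun _ hi => absurd hi List.not_mem_nil,
      fun _ hi => absurd hi List.not_mem_nil, b, hb, 1, one_mem _, by simp [nW]⟩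
  | i :: w, hw, hP, n, b, hn, hb => by
    have g := h.good
    obtain ⟨v, hv, hvP, b₁, hb₁, b₂, hb₂, e⟩ :=
      cell_word h (P := P) hw.tail (fun j hj => hP j (List.mem_cons_of_mem _ hj)) hn hb
    have hm : nW F g v * n ∈ D.monomialSubgroup F := mul_mem (nW_mem g hv) hn
    have e' : nW F g (i :: w) * b * n = nS F g i * b₁ * (nW F g v * n) * b₂ := by
      rw [show nW F g (i :: w) = nS F g i * nW F g w by simp [nW],
        show nS F g i * nW F g w * b * n = nS F g i * (nW F g w * b * n) by group, e]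
      group
    rcases bn_rule h hw.head hm hb₁ with hc | hc <;>
      obtain ⟨x, hx, y, hy, e2⟩ := DoubleCoset.mem_doubleCoset.1 hc
    · refine ⟨i :: v, hv.cons hw.head, List.forall_mem_cons.2 ⟨hP i List.mem_cons_self, hvP⟩,
        x, hx, y * b₂, mul_mem hy hb₂, ?_⟩
      rw [e', e2, show nW F g (i :: v) = nS F g i * nW F g v by simp [nW]]
      group
    · exact ⟨v, hv, hvP, x, hx, y * b₂, mul_mem hy hb₂, by rw [e', e2]; group⟩

namespace Twist

variable {h : Std D A} {f : Fold} (τ : Twist F h f) {T : List FState}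

include τ in
/-- a fixed word in the letters of one orbit is trivial or the orbit reflection -/
lemma orbit_dichotomy {j : ℕ} (hj : j < f.num) {v : List ℕ} (hv : Letters D v)
    (hvJ : ∀ i ∈ v, i ∈ f.J j) (hc : ∀ r < D.nroots, wf A v (f.r r) = f.r (wf A v r)) :
    SameOn D (wf A v) id ∨ SameOn D (wf A v) (wf A (f.w j)) := by
  classical
  have g := h.good
  have V := τ.valid
  rcases Fold.Valid.exists_descent g hv with hid | ⟨i, hi, hn⟩
  · exact Or.inl hid
  have hkeep : ∀ r, D.IsPosRoot r → ∀ k < D.rank, k ∉ f.J j → A.a r k ≠ 0 →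
      D.IsPosRoot (wf A v r) := by
    intro r hr k hk hkJ hne
    have hlt := wf_lt g hv hr.1
    refine (pos_or_pos_neg g hlt).resolve_right fun hneg => ?_
    have h1 := (g.pos_iff _ (g.neg_lt _ hlt)).1 hneg k
    have h2 := (g.pos_iff r hr.1).1 hr k
    rw [g.a_neg _ hlt, wf_coord g hv hk (fun hh => hkJ (hvJ k hh)) hr.1] at h1
    omega
  have hij : i ∈ f.J j := by
    by_contra hh
    exact hn (hkeep _ (simple_pos g hi) i hi hh (by simp [g.a_simple i hi i hi]))
  right
  have hdesc := Fold.Valid.nInv_descent g V hv hc hj hij hn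
  have hiff : ∀ r, D.IsPosRoot r →
      (¬ D.IsPosRoot (wf A v r) ↔ ¬ D.IsPosRoot (wf A (f.w j) r)) := by
    intro r hr
    refine ⟨fun hvr hw => ?_, fun hw => Fold.Valid.inverts_orbit g V hv hc hj hij hn hr hw⟩
    obtain ⟨k, hk, hkJ, hne⟩ : ∃ k < D.rank, k ∉ f.J j ∧ A.a r k ≠ 0 := by
      by_contra hcon
      push Not at hcon
      exact ((V.w_supp j hj r hr.1).2 ⟨hr, hcon⟩).2 hw
    exact hvr (hkeep r hr k hk hkJ hne)
  have he : nInv D A v = nInv D A (f.w j) := by
    unfold nInv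
    congr 1
    exact Finset.filter_congr fun r hr => hiff r (by simpa [posRoots_mem] using hr)
  have h0 : nInv D A (v ++ f.w j) = 0 := by omega
  have hid := Fold.Valid.exists_descent.sameOn_id_of_nInv g (hv.append (V.letters hj)) h0
  intro r hr
  have := hid _ (wf_lt g (V.letters hj) hr)
  rwa [wf_append, V.w_invol j hj r hr] at this

/-- fixed monomial elements -/
lemma fix_monomial (hT : FTabOK D A f T) {n : GL D.Idx F} (hn : n ∈ D.monomialSubgroup F)
    (hf : n ∈ τ.fix) : ∃ e ∈ T, ∃ t ∈ D.diagonalSubgroup F ⊓ τ.fix,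
      n = t * nW F h.good (f.flat e.word) := by
  have g := h.good
  obtain ⟨w, hw, c, ew⟩ := monomial_exists_word g hn
  obtain ⟨s, hs⟩ := exists_acts g hn
  have hsw : SameOn D s (wf A w) := fun r hr =>
    hs.unique (ew ▸ (acts_tor g c).mul (nW_acts g hw)) hr
  have hc := τ.fix_commutes hn hs hf (by rw [inv_mul_cancel]; exact one_mem _)
  obtain ⟨e, he, hew⟩ := hT.complete w hw fun r hr => by
    rw [← hsw r hr, ← hsw _ (τ.valid.r_lt r hr)]; exact hc r hr
  have hl := τ.valid.flat_letters (hT.letters e he)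
  refine ⟨e, he, n * (nW F g (f.flat e.word))⁻¹, Subgroup.mem_inf.2 ⟨?_, mul_mem hf
    (inv_mem (τ.nFlat_fix (hT.letters e he)))⟩, (inv_mul_cancel_right _ _).symm⟩
  exact diag_of_sameOn h hn (nW_mem g hl) hs (nW_acts g hl)
    (fun r hr => (hsw r hr).trans (hew r hr).symm)

lemma nJ_mem_monomial {j : ℕ} (hj : j < f.num) : τ.nJ j ∈ D.monomialSubgroup F :=
  nW_mem h.good (τ.valid.letters hj)

lemma nJ_acts {j : ℕ} (hj : j < f.num) : Acts h.good (τ.nJ j) (wf A (f.w j)) :=
  nW_acts h.good (τ.valid.letters hj)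

lemma nJ_sq {j : ℕ} (hj : j < f.num) : τ.nJ j * τ.nJ j ∈ D.diagonalSubgroup F :=
  mem_diag_of_id h (mul_mem (τ.nJ_mem_monomial hj) (τ.nJ_mem_monomial hj))
    ((τ.nJ_acts hj).mul (τ.nJ_acts hj)) fun r hr => τ.valid.w_invol j hj r hr

lemma nFlat_mem_closure : ∀ {l : List ℕ}, (∀ j ∈ l, j < f.num) →
    nW F h.good (f.flat l) ∈ Subgroup.closure {y | ∃ j < f.num, y = τ.nJ j}
  | [], _ => by simp [Fold.flat, nW, one_mem]
  | j :: l, hl => by
    have e : nW F h.good (f.flat (j :: l)) = τ.nJ j * nW F h.good (f.flat l) := by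
      simp [Fold.flat, nW, nJ]
    rw [e]
    exact mul_mem (Subgroup.subset_closure ⟨j, hl j List.mem_cons_self, rfl⟩)
      (nFlat_mem_closure fun k hk => hl k (List.mem_cons_of_mem _ hk))

/-- the double coset rule -/
lemma fix_rule (hT : FTabOK D A f T) {j : ℕ} (hj : j < f.num) {n b : GL D.Idx F}
    (hn : n ∈ D.monomialSubgroup F ⊓ τ.fix) (hb : b ∈ D.borelSubgroup F ⊓ τ.fix) :
    ∃ x ∈ D.borelSubgroup F ⊓ τ.fix, ∃ z ∈ D.borelSubgroup F ⊓ τ.fix,
      τ.nJ j * b * n = x * (τ.nJ j * n) * z ∨ τ.nJ j * b * n = x * n * z := by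
  have g := h.good
  have hy : τ.nJ j * b * n ∈ τ.fix := mul_mem (mul_mem (τ.nJ_fix hj) hb.2) hn.2
  obtain ⟨u, hu, t, ht, e, he, v, hv, ey⟩ := τ.fix_decomp hT hy
  obtain ⟨w, hw, hwJ, b₁, hb₁, b₂, hb₂, ew⟩ :=
    cell_word (F := F) h (P := (· ∈ f.J j)) (τ.valid.letters hj) (τ.valid.w_mem j hj) hn.1 hb.1
  set m := nW F g (f.flat e.word)
  have hl := τ.valid.flat_letters (hT.letters e he)
  have hmN : m ∈ D.monomialSubgroup F := nW_mem g hl
  have hbt : u * t ∈ D.borelSubgroup F := mul_mem (pos_le_borel hu.1) (diag_le_borel ht.1)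
  have hvB : v ∈ D.borelSubgroup F := pos_le_borel (τ.V_le_pos _ hv).1
  have eq : b₁ * (nW F g w * n) * b₂ = u * t * m * v := ew.symm.trans ey
  have hH := bruhat_unique h hb₁ hb₂ hbt hvB (mul_mem (nW_mem g hw) hn.1) hmN eq
  obtain ⟨s, hs⟩ := exists_acts g hn.1
  have hcn := τ.fix_commutes hn.1 hs hn.2 (by rw [inv_mul_cancel]; exact one_mem _)
  have hwc : ∀ r < D.nroots, wf A w (f.r r) = f.r (wf A w r) := by
    intro r hr
    obtain ⟨q, hq, rfl⟩ := hs.surj hr
    rw [diagonalSubgroup_eq g] at hH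
    obtain ⟨c, hc⟩ := hH
    have e1 : m = nW F g w * n * tor D A c := by rw [hc]; group
    have hA := ((nW_acts g hw).mul hs).mul (acts_tor (F := F) g c)
    rw [← e1] at hA
    have h1 : ∀ x < D.nroots, wf A w (s x) = wf A (f.flat e.word) x := fun x hx =>
      hA.unique (nW_acts g hl) hx
    have hec := Fold.Valid.flat_comm g τ.valid (hT.letters e he) hq
    rw [← hcn q hq, h1 _ (τ.valid.r_lt q hq), hec, h1 q hq]
  have fin : ∀ p : GL D.Idx F, p ∈ D.monomialSubgroup F → p ∈ τ.fix →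
      nW F g w * n * p⁻¹ ∈ D.diagonalSubgroup F →
      ∃ x ∈ D.borelSubgroup F ⊓ τ.fix, ∃ z ∈ D.borelSubgroup F ⊓ τ.fix,
        τ.nJ j * b * n = x * p * z := by
    intro p hp hpf hd
    have hmp : m * p⁻¹ ∈ D.diagonalSubgroup F := by
      have h2 := conj_diag g (mul_mem (nW_mem g hw) hn.1) hH
      have := mul_mem h2 hd
      convert this using 1
      group
    refine ⟨u * t * (m * p⁻¹), Subgroup.mem_inf.2 ⟨mul_mem hbt (diag_le_borel hmp), mul_mem (mul_mem hu.2 ht.2)
      (mul_mem (τ.nFlat_fix (hT.letters e he)) (inv_mem hpf))⟩, v, ⟨hvB, hv.2⟩, ?_⟩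
    rw [ey]; group
  rcases τ.orbit_dichotomy hj hw hwJ hwc with hid | hwj
  · obtain ⟨x, hx, z, hz, e'⟩ := fin n hn.1 hn.2 (by
      rw [mul_inv_cancel_right]
      exact mem_diag_of_id h (nW_mem g hw) (nW_acts g hw) fun r hr => hid r hr)
    exact ⟨x, hx, z, hz, Or.inr e'⟩
  · obtain ⟨x, hx, z, hz, e'⟩ := fin (τ.nJ j * n) (mul_mem (τ.nJ_mem_monomial hj) hn.1)
      (mul_mem (τ.nJ_fix hj) hn.2) (by
      rw [show nW F g w * n * (τ.nJ j * n)⁻¹ = nW F g w * (τ.nJ j)⁻¹ by group]
      exact diag_of_sameOn h (nW_mem g hw) (τ.nJ_mem_monomial hj) (nW_acts g hw) (τ.nJ_acts hj) hwj)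
    exact ⟨x, hx, z, hz, Or.inl e'⟩

/-- hypotheses on a folded endomorphism for its fixed points to have a (B,N)-pair -/
structure Split (τ : Twist F h f) (T : List FState) : Prop where
  tab : FTabOK D A f T
  extra : foldExtra D A f = true
  ne : ∀ j < f.num, τ.V (f.w j) ≠ ⊥

variable {τ}

lemma Split.orbit_inj (S : Split τ T) {j k : ℕ} (hj : j < f.num) (hk : k < f.num) {i : ℕ}
    (hi : i ∈ f.J j) (hi' : i ∈ f.J k) : j = k := by
  have := S.extra
  simp only [foldExtra, Bool.and_eq_true, List.all_eq_true, List.mem_range, Bool.or_eq_true,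
    decide_eq_true_eq, Bool.not_eq_true'] at this
  rcases this.1 j hj k hk with e | e
  · exact e
  · have := e i hi
    rw [List.contains_iff_mem.2 hi'] at this
    exact Bool.noConfusion this

lemma Split.nJ_inj (S : Split τ T) {j k : ℕ} (hj : j < f.num) (hk : k < f.num)
    (hb : (τ.nJ j)⁻¹ * τ.nJ k ∈ D.borelSubgroup F) : j = k := by
  have g := h.good
  have hd := mem_diag_of_borel_monomial h hb
    (mul_mem (inv_mem (τ.nJ_mem_monomial hj)) (τ.nJ_mem_monomial hk))
  rw [diagonalSubgroup_eq g] at hd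
  obtain ⟨c, hc⟩ := hd
  have e1 : τ.nJ k = τ.nJ j * tor D A c := by rw [hc]; group
  have hs : SameOn D (wf A (f.w k)) (wf A (f.w j)) := fun r hr => by
    have := τ.nJ_acts hk
    rw [e1] at this
    exact this.unique ((τ.nJ_acts hj).mul (acts_tor g c)) hr
  obtain ⟨i, hi⟩ := List.exists_mem_of_ne_nil _ (τ.valid.J_ne j hj)
  obtain ⟨h1, h2⟩ := Fold.Valid.simple_mem g τ.valid hj hi
  rw [← hs _ h1.1] at h2
  have h3 := ((τ.valid.w_supp k hk _ h1.1).1 ⟨h1, h2⟩).2
  refine S.orbit_inj hj hk hi (by_contra fun hn => ?_)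
  have hir := τ.valid.J_lt j hj i hi
  have := h3 i hir hn
  rw [g.a_simple i hir i hir, if_pos rfl] at this
  exact one_ne_zero this

/-- the (B,N)-pair of the fixed points -/
noncomputable def Split.pair (S : Split τ T) : Cfsg.BNPair ↥τ.fix where
  B := (D.borelSubgroup F ⊓ τ.fix).subgroupOf τ.fix
  N := (D.monomialSubgroup F ⊓ τ.fix).subgroupOf τ.fix
  S := {s | ∃ j < f.num, (s : GL D.Idx F) = τ.nJ j}
  sup_eq_top := by
    rw [eq_top_iff]
    rintro ⟨y, hy⟩ -
    obtain ⟨u, hu, t, ht, e, he, v, hv, ey⟩ := τ.fix_decomp S.tab hy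
    have hm := τ.nFlat_fix (S.tab.letters e he)
    have hmN : nW F h.good (f.flat e.word) ∈ D.monomialSubgroup F :=
      nW_mem h.good (τ.valid.flat_letters (S.tab.letters e he))
    have e2 : (⟨y, hy⟩ : ↥τ.fix) = ⟨u, hu.2⟩ * ⟨t, ht.2⟩ * ⟨_, hm⟩ * ⟨v, hv.2⟩ := Subtype.ext ey
    rw [e2]
    refine mul_mem (mul_mem (mul_mem ?_ ?_) ?_) ?_
    · exact Subgroup.mem_sup_left (Subgroup.mem_subgroupOf.2 ⟨pos_le_borel hu.1, hu.2⟩)
    · exact Subgroup.mem_sup_left (Subgroup.mem_subgroupOf.2 ⟨diag_le_borel ht.1, ht.2⟩)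
    · exact Subgroup.mem_sup_right (Subgroup.mem_subgroupOf.2 ⟨hmN, hm⟩)
    · exact Subgroup.mem_sup_left (Subgroup.mem_subgroupOf.2
        ⟨pos_le_borel (τ.V_le_pos _ hv).1, hv.2⟩)
  conj_mem := by
    intro n hn t ht
    have hd := mem_diag_of_borel_monomial h (Subgroup.mem_subgroupOf.1 ht.1).1
      (Subgroup.mem_subgroupOf.1 ht.2).1
    exact Subgroup.mem_subgroupOf.2
      ⟨diag_le_borel (conj_diag h.good (Subgroup.mem_subgroupOf.1 hn).1 hd), (n * t * n⁻¹).2⟩
  subset := by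
    rintro s ⟨j, hj, e⟩
    exact Subgroup.mem_subgroupOf.2 ⟨e ▸ τ.nJ_mem_monomial hj, s.2⟩
  sq_mem := by
    rintro s ⟨j, hj, e⟩
    refine Subgroup.mem_subgroupOf.2 ⟨?_, (s * s).2⟩
    push_cast
    rw [e]; exact diag_le_borel (τ.nJ_sq hj)
  inj := by
    rintro s ⟨j, hj, e⟩ s' ⟨k, hk, e'⟩ hb
    have hb' := (Subgroup.mem_subgroupOf.1 hb).1
    push_cast at hb'
    rw [e, e'] at hb'
    exact Subtype.ext (by rw [e, e', S.nJ_inj hj hk hb'])
  closure_sup := by
    refine le_antisymm (sup_le ?_ inf_le_right) ?_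
    · rw [Subgroup.closure_le]
      rintro s ⟨j, hj, e⟩
      exact Subgroup.mem_subgroupOf.2 ⟨e ▸ τ.nJ_mem_monomial hj, s.2⟩
    · intro n hn
      obtain ⟨hnN, hnf⟩ := Subgroup.mem_subgroupOf.1 hn
      obtain ⟨e, he, t, ht, en⟩ := τ.fix_monomial S.tab hnN hnf
      have hm := τ.nFlat_fix (S.tab.letters e he)
      have e2 : n = (⟨t, ht.2⟩ : ↥τ.fix) * ⟨_, hm⟩ := Subtype.ext en
      rw [e2]
      refine mul_mem (Subgroup.mem_sup_right ⟨Subgroup.mem_subgroupOf.2 ⟨diag_le_borel ht.1, ht.2⟩,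
        Subgroup.mem_subgroupOf.2 ⟨diag_le_monomial_of_good h.good ht.1, ht.2⟩⟩) (Subgroup.mem_sup_left ?_)
      have h1 := τ.nFlat_mem_closure (S.tab.letters e he)
      have h2 : (Subgroup.closure {y | ∃ j < f.num, y = τ.nJ j}).subgroupOf τ.fix ≤
          Subgroup.closure {s : ↥τ.fix | ∃ j < f.num, (s : GL D.Idx F) = τ.nJ j} := by
        intro x hx
        have h4 : Subgroup.closure {y | ∃ j < f.num, y = τ.nJ j} ≤
            (Subgroup.closure {s : ↥τ.fix | ∃ j < f.num, (s : GL D.Idx F) = τ.nJ j}).map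
              τ.fix.subtype := by
          rw [Subgroup.closure_le]
          rintro y ⟨j, hj, rfl⟩
          exact ⟨⟨_, τ.nJ_fix hj⟩, Subgroup.subset_closure ⟨j, hj, rfl⟩, rfl⟩
        obtain ⟨z, hz, ez⟩ := h4 (Subgroup.mem_subgroupOf.1 hx)
        exact (Subtype.ext ez : z = x) ▸ hz
      exact h2 (Subgroup.mem_subgroupOf.2 h1)
  mul_mem_union := by
    rintro s ⟨j, hj, e⟩ n hn b hb
    obtain ⟨x, hx, z, hz, e'⟩ :=
      τ.fix_rule S.tab hj (Subgroup.mem_subgroupOf.1 hn) (Subgroup.mem_subgroupOf.1 hb)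
    rcases e' with e' | e'
    · refine Or.inl (DoubleCoset.mem_doubleCoset.2 ⟨⟨x, hx.2⟩, Subgroup.mem_subgroupOf.2 hx,
        ⟨z, hz.2⟩, Subgroup.mem_subgroupOf.2 hz, Subtype.ext ?_⟩)
      push_cast
      rw [e]; exact e'
    · refine Or.inr (DoubleCoset.mem_doubleCoset.2 ⟨⟨x, hx.2⟩, Subgroup.mem_subgroupOf.2 hx,
        ⟨z, hz.2⟩, Subgroup.mem_subgroupOf.2 hz, Subtype.ext ?_⟩)
      push_cast
      rw [e]; exact e'
  conj_ne := by
    rintro s ⟨j, hj, e⟩ hB
    obtain ⟨x, hx, hx1⟩ : ∃ x ∈ τ.V (f.w j), x ≠ 1 := by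
      obtain ⟨a, ha⟩ := Subgroup.ne_bot_iff_exists_ne_one.1 (S.ne j hj)
      exact ⟨a.1, a.2, fun e0 => ha (Subtype.ext e0)⟩
    have h1 := (Set.ext_iff.1 hB _).1 ⟨(⟨x, hx.2⟩ : ↥τ.fix),
      Subgroup.mem_subgroupOf.2 ⟨pos_le_borel (τ.V_le_pos _ hx).1, hx.2⟩, rfl⟩
    rw [SetLike.mem_coe, Subgroup.mem_subgroupOf] at h1
    have h1' := (Subgroup.mem_inf.1 h1).1
    push_cast at h1'
    rw [e] at h1'
    have hneg : τ.nJ j * x * (τ.nJ j)⁻¹ ∈ D.negUnipotent F :=
      conj_UP_le (τ.nJ_acts hj) (fun r hr => hr.1.1)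
        (fun r t hr => xG_mem_negUnipotent h.good hr.2 t) hx.1
    have hb : τ.nJ j * x * (τ.nJ j)⁻¹ ∈ D.borelSubgroup F := by
      have := mul_mem h1' (inv_mem (diag_le_borel (F := F) (τ.nJ_sq hj)))
      convert this using 1
      group
    have := Subgroup.mem_bot.1 ((borel_inf_negUnipotent (F := F) h).le ⟨hb, hneg⟩)
    rw [conj_eq_one_iff] at this
    exact hx1 this

/-- the torus part of the pair -/
lemma Split.inf_eq (S : Split τ T) :
    S.pair.B ⊓ S.pair.N = (D.diagonalSubgroup F ⊓ τ.fix).subgroupOf τ.fix := by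
  ext x
  constructor
  · rintro ⟨h1, h2⟩
    exact Subgroup.mem_subgroupOf.2 ⟨mem_diag_of_borel_monomial h (Subgroup.mem_subgroupOf.1 h1).1
      (Subgroup.mem_subgroupOf.1 h2).1, x.2⟩
  · intro hx
    exact ⟨Subgroup.mem_subgroupOf.2 ⟨diag_le_borel (Subgroup.mem_subgroupOf.1 hx).1, x.2⟩,
      Subgroup.mem_subgroupOf.2 ⟨diag_le_monomial_of_good h.good (Subgroup.mem_subgroupOf.1 hx).1, x.2⟩⟩

/-- the distinguished generators are numbered by the orbits -/
noncomputable def Split.index (S : Split τ T) : Fin f.num ≃ S.pair.S :=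
  Equiv.ofBijective (fun j => ⟨⟨τ.nJ j, τ.nJ_fix j.isLt⟩, j, j.isLt, rfl⟩) (by
    refine ⟨fun a b e => ?_, fun s => ?_⟩
    · have e' : τ.nJ a = τ.nJ b := congrArg (fun x : S.pair.S => ((x : ↥τ.fix) : GL D.Idx F)) e
      exact Fin.ext (S.nJ_inj a.isLt b.isLt (by rw [e', inv_mul_cancel]; exact one_mem _))
    · obtain ⟨j, hj, e⟩ := s.2
      exact ⟨⟨j, hj⟩, Subtype.ext (Subtype.ext e.symm)⟩)

/-- the Weyl group of the fixed points -/
theorem Split.coxeter (S : Split τ T) {n : ℕ} (M : CoxeterMatrix (Fin n))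
    (hM : orbCox D A f (fun i j => M i j) = true) :
    ∃ φ : ↥(D.monomialSubgroup F ⊓ τ.fix) →* M.Group, Function.Surjective φ ∧
      φ.ker = (D.diagonalSubgroup F ⊓ τ.fix).subgroupOf (D.monomialSubgroup F ⊓ τ.fix) := by
  classical
  have g := h.good
  simp only [orbCox, Bool.and_eq_true, decide_eq_true_eq, List.all_eq_true, List.mem_finRange,
    forall_const, List.mem_range] at hM
  obtain ⟨rfl, hM⟩ := hM
  have hN : ((S.pair.B ⊓ S.pair.N).subgroupOf S.pair.N).Normal :=
    ⟨fun x hx y => Subgroup.mem_subgroupOf.2 ⟨S.pair.conj_mem _ y.2 _ (Subgroup.mem_subgroupOf.1 hx),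
      S.pair.N.mul_mem (S.pair.N.mul_mem y.2 x.2) (S.pair.N.inv_mem y.2)⟩⟩
  obtain ⟨hinv, -, hgen, hex⟩ := BN.wMap_props (P := S.pair)
  set g' := BN.wMap S.pair ∘ S.index with hg'
  have hpow : ∀ (i j : Fin f.num) (k : ℕ), (g' i * g' j) ^ k = 1 ↔ ∀ m < D.rank,
      wf A (f.flat (List.replicate k [i.val, j.val]).flatten) (D.simple m) = D.simple m := by
    intro i j k
    set l : List (Fin f.num) := (List.replicate k [i, j]).flatten with hl
    have h1 : (g' i * g' j) ^ k = ((l.map S.index).map (BN.wMap S.pair)).prod := by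
      rw [List.map_map, hl]
      clear hl l
      induction k with
      | zero => rfl
      | succ k ih =>
        rw [pow_succ', ih, List.replicate_succ, List.flatten_cons, List.map_append, List.prod_append]
        simp [hg']
    have hlv : (List.replicate k [i.val, j.val]).flatten = l.map Fin.val := by
      simp [hl, List.map_flatten]
    have hnum : ∀ x ∈ l.map Fin.val, x < f.num := fun x hx => by
      obtain ⟨y, -, rfl⟩ := List.mem_map.1 hx; exact y.isLt
    have hv : (((l.map S.index).map Subtype.val).prod : ↥τ.fix).1 =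
        nW F g (f.flat (l.map Fin.val)) := by
      clear h1 hlv hnum hl
      induction l with
      | nil => simp [Fold.flat, nW]
      | cons a l ih =>
        simp only [List.map_cons, List.prod_cons, Subgroup.coe_mul, ih]
        simp [Fold.flat, nW, Split.index, nJ]
    rw [h1, BN.wMap_prod, QuotientGroup.eq_one_iff, Subgroup.mem_subgroupOf, S.inf_eq, hlv,
      Subgroup.mem_subgroupOf]
    show _ ∈ D.diagonalSubgroup F ⊓ τ.fix ↔ _
    rw [hv]
    have hlet := τ.valid.flat_letters hnum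
    constructor
    · rintro ⟨hd, -⟩ m hm
      rw [SetLike.mem_coe, diagonalSubgroup_eq g] at hd
      obtain ⟨c, hc⟩ := hd
      have := nW_acts (F := F) g hlet
      rw [← hc] at this
      exact this.unique (acts_tor g c) (g.simple_lt m hm)
    · intro hm
      refine ⟨mem_diag_of_id h (nW_mem g hlet) (nW_acts g hlet) ?_, τ.nFlat_fix hnum⟩
      exact sameOn_of_simple g (wf_rootMap g hlet) rootMap_id hm
  have hord : ∀ i j, orderOf (g' i * g' j) = M i j := by
    intro i j
    obtain ⟨hpos, hk⟩ := hM i j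
    rw [orderOf_eq_iff hpos]
    refine ⟨(hpow i j _).2 ?_, fun m hlt hm hone => ?_⟩
    · have := hk (M i j) (by omega) hpos
      simpa [List.all_eq_true] using this
    · have := hk m (by omega) hm
      rw [decide_eq_false (show ¬ m = M i j by omega)] at this
      simp only [List.all_eq_false, List.mem_range, decide_eq_true_eq] at this
      obtain ⟨x, hx, hne⟩ := this
      exact hne ((hpow i j m).1 hone x hx)
  obtain ⟨cs, -⟩ := Cox.exists_coxeterSystem M (f := g') (fun i => hinv _) hord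
    (fun w => by
      obtain ⟨l, hl⟩ := hgen w
      exact ⟨l.map S.index.symm, by rw [← hl, List.map_map]; simp [hg', Function.comp_def]⟩)
    (exchange_comp S.index hex)
  let ι : ↥(D.monomialSubgroup F ⊓ τ.fix) →* S.pair.N :=
    { toFun := fun y => ⟨⟨y, y.2.2⟩, Subgroup.mem_subgroupOf.2 y.2⟩
      map_one' := rfl
      map_mul' := fun _ _ => rfl }
  refine ⟨cs.mulEquiv.toMonoidHom.comp ((QuotientGroup.mk' _).comp ι), ?_, ?_⟩
  · exact cs.mulEquiv.surjective.comp ((QuotientGroup.mk'_surjective _).comp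
      fun y => ⟨⟨y.1.1, Subgroup.mem_subgroupOf.1 y.2⟩, rfl⟩)
  · rw [MulEquiv.toMonoidHom_eq_coe, MonoidHom.ker_mulEquiv_comp]
    ext y
    rw [MonoidHom.mem_ker, MonoidHom.comp_apply, QuotientGroup.mk'_apply, QuotientGroup.eq_one_iff,
      Subgroup.mem_subgroupOf, S.inf_eq, Subgroup.mem_subgroupOf, Subgroup.mem_subgroupOf]
    exact Iff.rfl

/-- every fundamental root occurs in some fixed unipotent element -/
def Marked (τ : Twist F h f) : Prop :=
  ∀ i < D.rank, ∃ T₀ : ℕ → F, pw h.good D.posRoots T₀ ∈ τ.fix ∧ T₀ (D.simple i) ≠ 0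

/-- the Borel subgroup of the fixed points has trivial core -/
theorem Split.core_trivial (S : Split τ T) (hmark : Marked τ)
    (htop : ∃ e ∈ T, e.cnt = D.posRoots.length) : S.pair.B.normalCore = ⊥ := by
  classical
  have g := h.good
  obtain ⟨e, he, hcnt⟩ := htop
  set W := f.flat e.word
  have hl : Letters D W := τ.valid.flat_letters (S.tab.letters e he)
  have hw : ∀ r, D.IsPosRoot r → D.IsNegRoot (wf A W r) := by
    intro r hr
    have h1 := S.tab.count e he
    rw [hcnt, nInv, ← List.toFinset_card_of_nodup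
      (show D.posRoots.Nodup from List.Nodup.filter _ List.nodup_range)] at h1
    exact isNeg_of_not_pos g (wf_lt g hl hr.1) (Finset.filter_eq_self.1
      (Finset.eq_of_subset_of_card_le (Finset.filter_subset _ _) h1.ge) r
      (List.mem_toFinset.2 (posRoots_mem.2 hr)))
  set n := nW F g W
  have hnf : n ∈ τ.fix := τ.nFlat_fix (S.tab.letters e he)
  have hnA : Acts g n (wf A W) := nW_acts g hl
  set K := S.pair.B.normalCore
  have hKH : ∀ z ∈ K, (z : GL D.Idx F) ∈ D.diagonalSubgroup F := by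
    intro z hz
    have h1 := Subgroup.normalCore_le _ hz
    have h2 := Subgroup.normalCore_le _
      ((inferInstance : K.Normal).conj_mem z hz (⟨n, hnf⟩ : ↥τ.fix)⁻¹)
    rw [← borel_inf_negBorel h]
    refine Subgroup.mem_inf.2 ⟨(Subgroup.mem_subgroupOf.1 h1).1, ?_⟩
    have h3 := (Subgroup.mem_subgroupOf.1 h2).1
    push_cast at h3
    rw [inv_inv] at h3
    obtain ⟨u, hu, c, e'⟩ := (mem_borel_iff g).1 h3
    have hz' : (z : GL D.Idx F) = (n * u * n⁻¹) * (n * tor D A c * n⁻¹) := by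
      rw [show (n * u * n⁻¹) * (n * tor D A c * n⁻¹) = n * (u * tor D A c) * n⁻¹ by group, ← e']
      group
    rw [hz']
    refine mul_mem ((le_sup_left : _ ≤ D.negUnipotent F ⊔ D.diagonalSubgroup F) ?_)
      ((le_sup_right : _ ≤ D.negUnipotent F ⊔ D.diagonalSubgroup F) (conj_diag g (nW_mem g hl)
        (by rw [diagonalSubgroup_eq g]; exact ⟨c, rfl⟩)))
    rw [← longest_conj g hnA hw]
    exact ⟨u, hu, rfl⟩
  rw [eq_bot_iff]
  intro y hy
  have hy' := hKH y hy
  rw [diagonalSubgroup_eq g] at hy'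
  obtain ⟨c, hc⟩ := hy'
  have hchi1 : ∀ i < D.rank, chi D A c (D.simple i) = 1 := by
    intro i hi
    obtain ⟨T₀, hfix, hne⟩ := hmark i hi
    set x : ↥τ.fix := ⟨_, hfix⟩ with hx
    have hk : y * (x * y⁻¹ * x⁻¹) ∈ K :=
      mul_mem hy ((inferInstance : K.Normal).conj_mem _ (inv_mem hy) x)
    have hxU : pw g D.posRoots T₀ ∈ D.posUnipotent F := UL_posRoots (F := F) g ▸ pw_mem_UL g _ _
    have h1 : (y : GL D.Idx F) * pw g D.posRoots T₀ * (y : GL D.Idx F)⁻¹ *
        (pw g D.posRoots T₀)⁻¹ = 1 := by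
      refine Subgroup.mem_bot.1 ((posUnipotent_inf_diagonal (F := F) h).le
        (Subgroup.mem_inf.2 ⟨?_, ?_⟩))
      · refine mul_mem ?_ (inv_mem hxU)
        rw [← hc]; exact tor_conj_posUnipotent g c hxU
      · have := hKH _ hk
        push_cast at this
        simpa [hx, mul_assoc] using this
    have hpw : ∀ L : List ℕ, (∀ r ∈ L, r < D.nroots) →
        tor D A c * pw g L T₀ * (tor D A c)⁻¹ = pw g L fun r => (chi D A c r : F) * T₀ r := by
      intro L
      induction L with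
      | nil => intro _; simp [pw]
      | cons r L ih =>
        intro hL
        have := ih fun s hs => hL s (List.mem_cons_of_mem _ hs)
        simp only [pw, List.map_cons, List.prod_cons] at this ⊢
        rw [← this, ← tor_conj_xG g c (hL r List.mem_cons_self)]
        group
    have h2 : pw g D.posRoots (fun r => (chi D A c r : F) * T₀ r) = pw g D.posRoots T₀ := by
      rw [← hpw _ (fun r hr => (posRoots_mem.1 hr).1), hc]
      exact mul_inv_eq_one.1 h1
    have h3 := pw_inj h upList_posRoots h2 (D.simple i) (posRoots_mem.2 (simple_pos g hi))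
    exact Units.ext (by rw [Units.val_one]; exact mul_eq_right₀ hne |>.1 h3)
  have hchi : ∀ r < D.nroots, chi D A c r = 1 := by
    intro r hr
    rw [chi_eq_wt g c hr, wt]
    exact Finset.prod_eq_one fun k hk => by simp [hchi1 k (by simpa using hk)]
  refine Subgroup.mem_bot.2 (Subtype.ext (Units.ext ?_))
  rw [← hc, tor_val, dia_congr (e := fun _ => (1 : F)) (fun s hs => by rw [hchi s hs, Units.val_one]),
    dia_one]
  rfl

/-- the pair is irreducible -/
theorem Split.irreducible (S : Split τ T) : S.pair.Irreducible := by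
  intro J hJ hne hdiff
  by_contra hcon
  push Not at hcon
  have g := h.good
  let s : Fin f.num → ↥τ.fix := fun j => ⟨τ.nJ j, τ.nJ_fix j.isLt⟩
  have hS : ∀ j, s j ∈ S.pair.S := fun j => ⟨j, j.isLt, rfl⟩
  have hcomm : ∀ j k : Fin f.num, s j ∈ J → s k ∉ J → ∀ i < D.rank,
      wf A (f.w j ++ f.w k) (D.simple i) = wf A (f.w k ++ f.w j) (D.simple i) := by
    intro j k hj hk i hi
    have hb := hcon _ hj _ ⟨hS k, hk⟩
    have hn : ∀ m : Fin f.num, s m ∈ S.pair.N := fun m => S.pair.subset (hS m)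
    have hd : s j * s k * (s j)⁻¹ * (s k)⁻¹ ∈ S.pair.B ⊓ S.pair.N :=
      Subgroup.mem_inf.2 ⟨hb, mul_mem (mul_mem (mul_mem (hn j) (hn k)) (inv_mem (hn j))) (inv_mem (hn k))⟩
    rw [S.inf_eq] at hd
    have hd' := (Subgroup.mem_subgroupOf.1 hd).1
    push_cast at hd'
    rw [diagonalSubgroup_eq g] at hd'
    obtain ⟨c, hc⟩ := hd'
    have e : τ.nJ j * τ.nJ k = tor D A c * (τ.nJ k * τ.nJ j) := by
      rw [hc]; simp only [s]; group
    have h1 := (τ.nJ_acts j.isLt).mul (τ.nJ_acts k.isLt)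
    rw [e] at h1
    have := h1.unique ((acts_tor g c).mul ((τ.nJ_acts k.isLt).mul (τ.nJ_acts j.isLt)))
      (g.simple_lt i hi)
    rw [wf_append, wf_append]
    exact this
  have hex := S.extra
  simp only [foldExtra, Bool.and_eq_true, List.all_eq_true, List.mem_range, Bool.or_eq_true,
    decide_eq_true_eq, List.any_eq_true, Bool.not_eq_true', List.all_eq_false] at hex
  have key : ∀ k : Fin f.num, s k ∈ J ↔ s ⟨0, Nat.zero_lt_of_lt k.isLt⟩ ∈ J := by
    intro k
    obtain ⟨k, hk⟩ := k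
    induction k using Nat.strong_induction_on with
    | _ k ih =>
      rcases hex.2 k hk with rfl | ⟨j, hjk, i, hi, hne'⟩
      · rfl
      rw [← ih j hjk (hjk.trans hk)]
      constructor
      · intro h1
        by_contra h2
        exact hne' (hcomm ⟨k, hk⟩ ⟨j, hjk.trans hk⟩ h1 h2 i hi).symm
      · intro h1
        by_contra h2
        exact hne' (hcomm ⟨j, hjk.trans hk⟩ ⟨k, hk⟩ h1 h2 i hi)
  obtain ⟨a, ha⟩ := hne
  obtain ⟨b, hbS, hb⟩ := hdiff
  obtain ⟨i, hi, ei⟩ := hJ ha
  obtain ⟨j, hj, ej⟩ := hbS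
  obtain rfl : a = s ⟨i, hi⟩ := Subtype.ext ei
  obtain rfl : b = s ⟨j, hj⟩ := Subtype.ext ej
  exact hb ((key ⟨j, hj⟩).2 ((key ⟨i, hi⟩).1 ha))

/-- simplicity of the fixed points -/
theorem Split.simple (S : Split τ T) (hmark : Marked τ)
    (htop : ∃ e ∈ T, e.cnt = D.posRoots.length) (hnum : 0 < f.num)
    (hperf : commutator ↥τ.fix = ⊤) :
    IsSimpleGroup ↥τ.fix ∧ ¬ IsMulCommutative ↥τ.fix := by
  have hne1 : (⟨τ.nJ 0, τ.nJ_fix hnum⟩ : ↥τ.fix) ≠ 1 := fun e =>
    BN.not_mem_B (P := S.pair) (s := ⟨τ.nJ 0, τ.nJ_fix hnum⟩) ⟨0, hnum, rfl⟩ (e ▸ one_mem _)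
  have : Nontrivial ↥τ.fix := nontrivial_of_ne _ _ hne1
  refine ⟨BN.simple_of_irreducible (P := S.pair) S.irreducible ?_ hperf
    (S.core_trivial hmark htop), fun hcomm => ?_⟩
  · have := borel_solvable (F := F) h
    exact Group.isSolvable_of_isSolvable_injective (f := (Subgroup.inclusion
      (inf_le_left : D.borelSubgroup F ⊓ τ.fix ≤ _)).comp
        (Subgroup.subgroupOfEquivOfLe inf_le_right).toMonoidHom)
      ((Subgroup.inclusion_injective
        (inf_le_left : D.borelSubgroup F ⊓ τ.fix ≤ D.borelSubgroup F)).comp (MulEquiv.injective _))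
  · have hb : commutator ↥τ.fix = ⊥ := by
      rw [commutator_def, Subgroup.commutator_eq_bot_iff_le_centralizer]
      exact fun x _ y _ => IsMulCommutative.is_comm.comm y x
    rw [hb] at hperf
    exact bot_ne_top hperf

end Twist

end CfsgLib.Chev
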