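/-
The fixed part of the torus.
-/
import Cfsg.Agent.Lib.Chev.Twist.Fix
import Cfsg.Agent.Lib.Chev.TorusCard

set_option autoImplicit false

namespace CfsgLib.Chev

open Cfsg.Lie Matrix

variable {D : ChevalleyDatum} {A : Aux} {F : Type*} [Field F]

lemma tor_inj_of_inv (g : Good D A) {N : Matrix (Fin D.rank) (Fin D.rank) ℤ}
    (hN : cartanM D A * N = 1) : Function.Injective (tor D A : (Fin D.rank → Fˣ) →* GL D.Idx F) := by
  rw [injective_iff_map_eq_one]
  intro c hc
  have := congrArg (mHom F N) ((tor_eq_one_iff g c).1 hc)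
  rwa [mHom_mul, hN, mHom_one, map_one] at this

lemma chi_simple_eq_one (g : Good D A) {c : Fin D.rank → Fˣ} (hc : (tor D A c : GL D.Idx F) = 1)
    (k : Fin D.rank) : ∏ i, c i ^ cartanM D A i k = 1 :=
  congrFun ((tor_eq_one_iff g c).1 hc) k

namespace Twist

variable {h : Std D A} {f : Fold} (τ : Twist F h f)

/-- the action on torus parameters -/
noncomputable def theta : (Fin D.rank → Fˣ) →* (Fin D.rank → Fˣ) where
  toFun c := ∏ i : Fin D.rank, Pi.mulSingle (⟨f.p i, τ.valid.p_lt i i.isLt⟩ : Fin D.rank)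
    (Units.map (τ.psi i : F →+* F).toMonoidHom (c i))
  map_one' := by simp
  map_mul' c d := by simp [Pi.mulSingle_mul, Finset.prod_mul_distrib]

lemma maps_theta (c : Fin D.rank → Fˣ) : τ.Maps (tor D A c) (tor D A (τ.theta c)) := τ.maps_tor c

lemma theta_apply (c : Fin D.rank → Fˣ) {i k : Fin D.rank} (hik : f.p i = k) :
    ((τ.theta c k : Fˣ) : F) = τ.psi i (c i) := by
  obtain rfl : (⟨f.p i, τ.valid.p_lt i i.isLt⟩ : Fin D.rank) = k := Fin.ext hik
  show (((∏ m : Fin D.rank, Pi.mulSingle (⟨f.p m, τ.valid.p_lt m m.isLt⟩ : Fin D.rank)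
    (Units.map (τ.psi m : F →+* F).toMonoidHom (c m)) : Fin D.rank → Fˣ)
      ⟨f.p i, τ.valid.p_lt i i.isLt⟩ : Fˣ) : F) = _
  rw [Finset.prod_apply, Finset.prod_eq_single i]
  · rw [Pi.mulSingle_eq_same]; rfl
  · intro m _ hm
    refine Pi.mulSingle_eq_of_ne (fun e => hm (Fin.ext ?_)) _
    exact (τ.valid.p_inj i i.isLt m m.isLt (congrArg Fin.val e)).symm
  · simp

lemma tor_mem_fix_iff (c : Fin D.rank → Fˣ) :
    tor D A c ∈ τ.fix ↔ (tor D A (τ.theta c) : GL D.Idx F) = tor D A c :=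
  ⟨fun hc => Maps.fun_eq τ (τ.maps_theta c) hc, fun e => by
    have := τ.maps_theta c
    rw [e] at this
    exact this⟩

/-- the fixed parameters -/
noncomputable def thetaFix : Subgroup (Fin D.rank → Fˣ) :=
  τ.theta.eqLocus (MonoidHom.id _)

lemma mem_thetaFix {c : Fin D.rank → Fˣ} : c ∈ τ.thetaFix ↔ τ.theta c = c := Iff.rfl

/-- if every fixed torus element has a fixed parameter, the fixed torus is their image -/
lemma diag_fix_eq
    (hlift : ∀ c, (tor D A (τ.theta c) : GL D.Idx F) = tor D A c →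
      ∃ z, (tor D A z : GL D.Idx F) = 1 ∧ τ.theta (c * z) = c * z) :
    D.diagonalSubgroup F ⊓ τ.fix = τ.thetaFix.map (tor D A) := by
  ext y
  rw [Subgroup.mem_inf, diagonalSubgroup_eq h.good]
  constructor
  · rintro ⟨⟨c, rfl⟩, hf⟩
    obtain ⟨z, hz, e⟩ := hlift c ((τ.tor_mem_fix_iff c).1 hf)
    exact ⟨c * z, e, by rw [map_mul, hz, mul_one]⟩
  · rintro ⟨c, hc, rfl⟩
    exact ⟨⟨c, rfl⟩, (τ.tor_mem_fix_iff c).2 (by rw [τ.mem_thetaFix.1 hc])⟩

/-- with an injective torus parametrisation -/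
lemma diag_fix_inj (hinj : Function.Injective (tor D A : (Fin D.rank → Fˣ) →* GL D.Idx F)) :
    D.diagonalSubgroup F ⊓ τ.fix = τ.thetaFix.map (tor D A) :=
  τ.diag_fix_eq fun c hc => ⟨1, map_one _, by rw [mul_one]; exact hinj hc⟩

lemma card_map_tor [Fintype F] (S : Subgroup (Fin D.rank → Fˣ)) :
    Nat.card ↥((tor D A).ker ⊓ S : Subgroup (Fin D.rank → Fˣ)) *
      Nat.card ↥(S.map (tor D A) : Subgroup (GL D.Idx F)) = Nat.card ↥S := by
  set φ : ↥S →* GL D.Idx F := (tor D A).comp S.subtype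
  have h2 : φ.range = S.map (tor D A) := by
    rw [MonoidHom.range_eq_map, ← Subgroup.map_map, ← MonoidHom.range_eq_map, Subgroup.range_subtype]
  have h3 : φ.ker.map S.subtype = (tor D A).ker ⊓ S := by
    ext x
    constructor
    · rintro ⟨y, hy, rfl⟩; exact ⟨hy, y.2⟩
    · rintro ⟨hx, hxS⟩; exact ⟨⟨x, hxS⟩, hx, rfl⟩
  rw [← h2, ← h3, Subgroup.card_map_of_injective (Subgroup.subtype_injective S),
    ← Subgroup.index_ker, Subgroup.card_mul_index]

end Twist

end CfsgLib.Chev
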