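/-
Generators of twisted groups.
-/
import Cfsg.Agent.Lib.Chev.Twist.Class
import Cfsg.Agent.Lib.Chev.Twist.FixBN
import Cfsg.Agent.Lib.Chev.Twist.Torus

set_option autoImplicit false

namespace CfsgLib.Chev

open Cfsg.Lie Matrix
open scoped commutatorElement

variable {D : ChevalleyDatum} {A : Aux} {F : Type*} [Field F]

/-- the subgroup generated by words as products of root elements -/
lemma genSubgroup_eq (g : Good D A) (S : Set (List (ℕ × F))) :
    D.genSubgroup F S = Subgroup.closure {y | ∃ w ∈ S, y = (w.map fun c => xG g c.1 c.2).prod} := by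
  refine congrArg Subgroup.closure (Set.ext fun y => ?_)
  refine exists_congr fun w => and_congr_right fun _ => ?_
  rw [← prod_xG_val g w, ← Units.ext_iff]

lemma word_mem_gen (g : Good D A) {S : Set (List (ℕ × F))} {w : List (ℕ × F)} (hw : w ∈ S) :
    (w.map fun c => xG g c.1 c.2).prod ∈ D.genSubgroup F S := by
  rw [genSubgroup_eq g]; exact Subgroup.subset_closure ⟨w, hw, rfl⟩

/-- pairwise commutation of two pairs of opposite roots -/
lemma commute_nG (h : Std D A) {r s : ℕ} (hr : r < D.nroots) (hs : s < D.nroots)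
    (h1 : commPair D A r s = true) (h2 : commPair D A r (A.neg s) = true)
    (h3 : commPair D A (A.neg r) s = true) (h4 : commPair D A (A.neg r) (A.neg s) = true) (c d : F) :
    nG h.good r c * nG h.good s d =
      (xG h.good r c * xG h.good s d) * (xG h.good (A.neg r) (-c⁻¹) * xG h.good (A.neg s) (-d⁻¹)) *
        (xG h.good r c * xG h.good s d) := by
  unfold nG
  rw [h.good.neg_eq r hr, h.good.neg_eq s hs]
  set a := xG h.good r c
  set b := xG h.good (A.neg r) (-c⁻¹)
  set a' := xG h.good s d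
  set b' := xG h.good (A.neg s) (-d⁻¹)
  have c1 : Commute a a' := commute_xG h h1 _ _
  have c2 : Commute a b' := commute_xG h h2 _ _
  have c3 : Commute b a' := commute_xG h h3 _ _
  have c4 : Commute b b' := commute_xG h h4 _ _
  calc a * b * a * (a' * b' * a') = a * b * (a * a') * (b' * a') := by group
    _ = a * (b * a') * (a * b') * a' := by rw [c1.eq]; group
    _ = a * a' * b * b' * (a * a') := by rw [c3.eq, c2.eq]; group
    _ = _ := by group

/-- a one-parameter family on which an element of `X` acts by a scalar other than one -/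
lemma comm_family {G : Type*} [Group G] {X : Subgroup G} {W : F → G}
    (hW : ∀ a b, W a * W b = W (a + b)) (hX : ∀ a, W a ∈ X) {y : G} (hy : y ∈ X) {k : F}
    (hk : k ≠ 1) (hc : ∀ a, y * W a * y⁻¹ = W (k * a)) (t : F) : W t ∈ ⁅X, X⁆ := by
  have h0 : W 0 = 1 := by
    have := hW 0 0
    rwa [add_zero, mul_eq_left] at this
  set a := t / (k - 1)
  have e : ⁅y, W a⁆ = W t := by
    have hi : (W a)⁻¹ = W (-a) := by
      rw [inv_eq_iff_mul_eq_one, hW, add_neg_cancel, h0]
    rw [commutatorElement_def, hc, hi, hW]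
    congr 1
    have hk' : k - 1 ≠ 0 := sub_ne_zero.2 hk
    rw [show k * a + -a = (k - 1) * a by ring]
    exact mul_div_cancel₀ t hk'
  rw [← e]
  exact Subgroup.commutator_mem_commutator hy (hX a)

/-- a root element as a commutator of two elements of `X` -/
lemma comm_root (h : Std D A) {X : Subgroup (GL D.Idx F)} {p r s : ℕ} (hr : r < D.nroots)
    (hs : s < D.nroots) {c : ℤ} (hsr : s ≠ r) (hsn : s ≠ A.neg r)
    (e : A.terms r s = [(p, c, 1, 1)]) (hc : (c : F) ≠ 0) {t : F}
    (h1 : xG h.good r (-1) ∈ X) (h2 : xG h.good s (t / c) ∈ X) : xG h.good p t ∈ ⁅X, X⁆ := by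
  have hswap := xG_swap h hr hs hsr hsn (-1) (t / c : F)
  rw [e] at hswap
  simp only [List.map_cons, List.map_nil, List.prod_cons, List.prod_nil, mul_one, pow_one, neg_neg,
    mul_div_cancel₀ _ hc] at hswap
  have key : xG h.good p t = ⁅(xG h.good s (t / c : F))⁻¹, (xG h.good r (-1 : F))⁻¹⁆ := by
    rw [commutatorElement_def, inv_inv, inv_inv, mul_assoc _ (xG h.good s (t / c : F)), hswap]
    group
  rw [key]
  exact Subgroup.commutator_mem_commutator (inv_mem h2) (inv_mem h1)

lemma exists_sq_ne_one [Fintype F] (h4 : 4 ≤ Fintype.card F) : ∃ u : Fˣ, (u : F) ^ 2 ≠ 1 := by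
  obtain ⟨g, hg⟩ := IsCyclic.exists_generator (α := Fˣ)
  refine ⟨g, fun e => ?_⟩
  have h1 : g ^ 2 = 1 := Units.ext (by simpa using e)
  have h2 := Nat.le_of_dvd (by norm_num) (orderOf_dvd_of_pow_eq_one h1)
  rw [orderOf_eq_card_of_forall_mem_zpowers hg, Nat.card_units, Nat.card_eq_fintype_card] at h2
  omega

lemma chi_hG_simple (c : Fin D.rank → Fˣ) (s : ℕ) :
    (chi D A c s : F) = ∏ i, (c i : F) ^ A.cart i.val s := by
  simp [chi, Units.coe_prod]

namespace Twist

variable {h : Std D A} {f : Fold} (τ : Twist F h f)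

lemma V_le_of [Fintype F] {T : List FState} (hT : FTabOK D A f T) {X : Subgroup (GL D.Idx F)}
    (hn : ∀ j < f.num, τ.nJ j ∈ X) (hX : ∀ j < f.num, τ.V (f.w j) ≤ X) {e : FState} (he : e ∈ T) :
    τ.V (f.flat e.word) ≤ X := by
  suffices ∀ w, Letters D w → (∀ r < D.nroots, wf A w (f.r r) = f.r (wf A w r)) → τ.V w ≤ X from
    this _ (τ.valid.flat_letters (hT.letters e he))
      fun r hr => Fold.Valid.flat_comm h.good τ.valid (hT.letters e he) hr
  intro w hw hc
  induction hk : nInv D A w using Nat.strong_induction_on generalizing w with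
  | _ k ih =>
    have g := h.good
    rcases Fold.Valid.exists_descent g hw with hid | ⟨i, hi, hneg⟩
    · rw [τ.V_id hid]; exact bot_le
    obtain ⟨j, hj, hij⟩ := τ.valid.cover i hi
    have hlJ := τ.valid.letters hj
    have hc' : ∀ s < D.nroots, wf A (w ++ f.w j) (f.r s) = f.r (wf A (w ++ f.w j) s) := by
      intro s hs
      rw [wf_append, wf_append, τ.valid.w_comm j hj s hs, hc _ (wf_lt g hlJ hs)]
    have h1 := Fold.Valid.nInv_descent g τ.valid hw hc hj hij hneg
    have h2 := Fold.Valid.nInv_orbit_pos g τ.valid hj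
    exact (τ.V_split hw hc hj hij hneg).2 X (hn j hj)
      (ih _ (by omega) _ (hw.append hlJ) hc' rfl) (hX j hj)

/-- the fixed points are generated by the orbit pieces -/
theorem fix_le [Fintype F] {T : List FState} (hT : FTabOK D A f T)
    (htop : ∃ e ∈ T, e.cnt = D.posRoots.length) {X : Subgroup (GL D.Idx F)}
    (hn : ∀ j < f.num, τ.nJ j ∈ X) (hX : ∀ j < f.num, τ.V (f.w j) ≤ X)
    (hH : D.diagonalSubgroup F ⊓ τ.fix ≤ X) : τ.fix ≤ X := by
  obtain ⟨e₀, he₀, hcnt⟩ := htop
  intro y hy
  obtain ⟨u, hu, t, ht, e, he, v, hv, rfl⟩ := τ.fix_decomp hT hy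
  have hu' : u ∈ X := τ.V_le_of hT hn hX he₀ (τ.pos_eq_V hT he₀ hcnt ▸ hu)
  have hm : nW F h.good (f.flat e.word) ∈ X := by
    refine (Subgroup.closure_le X).2 ?_ (τ.nFlat_mem_closure (hT.letters e he))
    rintro z ⟨j, hj, rfl⟩
    exact hn j hj
  exact mul_mem (mul_mem (mul_mem hu' (hH ht)) hm) (τ.V_le_of hT hn hX he hv)

/-- perfectness from a subgroup containing the generators -/
lemma perfect_of_le {X : Subgroup (GL D.Idx F)} (hle : X ≤ ⁅X, X⁆) : commutator ↥X = ⊤ := by
  rw [eq_top_iff]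
  intro y _
  have : (y : GL D.Idx F) ∈ (commutator ↥X).map X.subtype := by
    rw [Subgroup.map_subtype_commutator]; exact hle y.2
  obtain ⟨z, hz, e⟩ := this
  exact (Subtype.ext e : z = y) ▸ hz

end Twist

end CfsgLib.Chev
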