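/-
Orders of fixed point groups, and small tools for the concrete families.
-/
import Cfsg.Agent.Lib.Chev.Twist.Gen

set_option autoImplicit false

namespace CfsgLib.Chev

open Cfsg.Lie Matrix

variable {D : ChevalleyDatum} {A : Aux} {F : Type*} [Field F]

/-- the counting polynomial of a table of states -/
def fixPoly (d : ℕ) (T : List FState) : List ℕ :=
  ((T.map fun e => e.cnt / d).map pMono).foldr pAdd []

lemma chi_mulSingle (i : Fin D.rank) (u : Fˣ) (s : ℕ) :
    chi D A (Pi.mulSingle i u) s = u ^ A.cart i.val s := by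
  rw [chi, Finset.prod_eq_single i]
  · simp
  · intro j _ hj; simp [hj]
  · simp

lemma hG_conj_xG (g : Good D A) {i : ℕ} (hi : i < D.rank) (u : Fˣ) {r : ℕ} (hr : r < D.nroots)
    {z : ℤ} (hz : A.cart i r = z) (t : F) :
    hG g (D.simple i) (u : F) * xG g r t * (hG g (D.simple i) (u : F))⁻¹ =
      xG g r ((u : F) ^ z * t) := by
  rw [show hG g (D.simple i) (u : F) = tor D A (Pi.mulSingle (⟨i, hi⟩ : Fin D.rank) u) from
      hG_simple g ⟨i, hi⟩ u, tor_conj_xG g _ hr, chi_mulSingle, Units.val_zpow_eq_zpow_val]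
  subst hz
  rfl

lemma tor_eq_prod_hG (g : Good D A) (c : Fin D.rank → Fˣ) :
    (tor D A c : GL D.Idx F) = ((List.finRange D.rank).map fun i : Fin D.rank => hG g (D.simple i) (c i : F)).prod := by
  have e : ((List.finRange D.rank).map fun i => Pi.mulSingle i (c i)).prod = c := by
    rw [← Fin.prod_univ_def, Finset.univ_prod_mulSingle]
  conv_lhs => rw [← e, map_list_prod, List.map_map]
  exact congrArg List.prod (List.map_congr_left fun i _ => (hG_simple g i (c i)).symm)

variable (F) in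
/-- root elements of the four sign combinations commute -/
def PairOK (D : ChevalleyDatum) (A : Aux) (r s : ℕ) : Prop :=
  r < D.nroots ∧ s < D.nroots ∧ commPair D A r s = true ∧ commPair D A r (A.neg s) = true ∧
    commPair D A (A.neg r) s = true ∧ commPair D A (A.neg r) (A.neg s) = true

lemma commute_nG' (h : Std D A) {r s : ℕ} (p : PairOK D A r s) (c d : F) :
    Commute (nG h.good r c) (nG h.good s d) := by
  obtain ⟨hr, hs, h1, h2, h3, h4⟩ := p
  unfold nG
  rw [h.good.neg_eq r hr, h.good.neg_eq s hs]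
  refine Commute.mul_right (Commute.mul_right ?_ ?_) ?_ <;>
    refine Commute.mul_left (Commute.mul_left ?_ ?_) ?_
  all_goals first
    | exact commute_xG h h1 _ _
    | exact commute_xG h h2 _ _
    | exact commute_xG h h3 _ _
    | exact commute_xG h h4 _ _

lemma nG_pair_mem (h : Std D A) {r s : ℕ} (p : PairOK D A r s) {X : Subgroup (GL D.Idx F)}
    {σ : F →+* F} (hp : ∀ t, xG h.good r t * xG h.good s (σ t) ∈ X)
    (hn : ∀ t, xG h.good (A.neg r) t * xG h.good (A.neg s) (σ t) ∈ X) (c : F) :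
    nG h.good r c * nG h.good s (σ c) ∈ X := by
  obtain ⟨hr, hs, h1, h2, h3, h4⟩ := p
  rw [commute_nG h hr hs h1 h2 h3 h4]
  refine mul_mem (mul_mem (hp c) ?_) (hp c)
  have := hn (-c⁻¹)
  rwa [map_neg, map_inv₀] at this

lemma hG_pair_mem (h : Std D A) {r s : ℕ} (p : PairOK D A r s) {X : Subgroup (GL D.Idx F)}
    {σ : F →+* F} (hp : ∀ t, xG h.good r t * xG h.good s (σ t) ∈ X)
    (hn : ∀ t, xG h.good (A.neg r) t * xG h.good (A.neg s) (σ t) ∈ X) (c : F) :
    hG h.good r c * hG h.good s (σ c) ∈ X := by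
  have e : hG h.good r c * hG h.good s (σ c) =
      (nG h.good r c * nG h.good s (σ c)) * (nG h.good r (-1) * nG h.good s (σ (-1))) := by
    rw [map_neg, map_one]
    unfold hG
    have := (commute_nG' h p (-1) (σ c)).eq
    calc nG h.good r c * nG h.good r (-1) * (nG h.good s (σ c) * nG h.good s (-1)) =
        nG h.good r c * (nG h.good r (-1) * nG h.good s (σ c)) * nG h.good s (-1) := by group
      _ = nG h.good r c * (nG h.good s (σ c) * nG h.good r (-1)) * nG h.good s (-1) := by rw [this]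
      _ = _ := by group
  rw [e]
  exact mul_mem (nG_pair_mem h p hp hn c) (nG_pair_mem h p hp hn (-1))

lemma nG_one_mem (g : Good D A) {r : ℕ} (hr : r < D.nroots) {X : Subgroup (GL D.Idx F)} {c : F}
    (h1 : xG g r c ∈ X) (h2 : xG g (A.neg r) (-c⁻¹) ∈ X) : nG g r c ∈ X := by
  unfold nG
  rw [g.neg_eq r hr]
  exact mul_mem (mul_mem h1 h2) h1

namespace Twist

variable {h : Std D A} {f : Fold} (τ : Twist F h f)

/-- the orders of the pieces and of the fixed group -/
theorem card_formula [Fintype F] {T : List FState} (hT : FTabOK D A f T) {d q : ℕ} (hd : 0 < d)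
    {sz : ℕ → ℕ} (hsz : ∀ j < f.num, nInv D A (f.w j) = d * sz j)
    (hq : ∀ j < f.num, Nat.card ↥(τ.V (f.w j)) = q ^ sz j) {e₀ : FState} (he₀ : e₀ ∈ T)
    (hcnt : e₀.cnt = D.posRoots.length) :
    Nat.card ↥(D.posUnipotent F ⊓ τ.fix) = q ^ (e₀.cnt / d) ∧
      Nat.card τ.fix = q ^ (e₀.cnt / d) * Nat.card ↥(D.diagonalSubgroup F ⊓ τ.fix) *
        pEval q (fixPoly d T) := by
  have key : ∀ e ∈ T, Nat.card ↥(τ.V (f.flat e.word)) = q ^ (e.cnt / d) := by
    intro e he
    have hl := τ.valid.flat_letters (hT.letters e he)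
    obtain ⟨-, N, hN, hc⟩ := τ.V_rec (X := τ.fix) (fun j hj => τ.nJ_fix hj)
      (fun j _ => inf_le_right) hsz hq hl
      (fun r hr => Fold.Valid.flat_comm h.good τ.valid (hT.letters e he) hr)
    rw [hT.count e he] at hN
    rw [hc, hN, Nat.mul_div_cancel_left _ hd]
  have hU : Nat.card ↥(D.posUnipotent F ⊓ τ.fix) = q ^ (e₀.cnt / d) := by
    rw [τ.pos_eq_V hT he₀ hcnt, key e₀ he₀]
  refine ⟨hU, ?_⟩
  rw [τ.card_fix hT, hU]
  congr 1
  rw [fixPoly, pEval_counts, List.map_map]
  exact congrArg List.sum (List.map_congr_left fun e he => key e he)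

lemma ne_bot_of_card [Fintype F] {w : List ℕ} (hc : 2 ≤ Nat.card ↥(τ.V w)) : τ.V w ≠ ⊥ := by
  intro e
  rw [e, Subgroup.card_bot] at hc
  omega

/-- a marked element from a sorted product -/
lemma mark_of {L : List ℕ} (hL : D.posRoots.filter (fun r => L.contains r) = L) {T₀ : ℕ → F}
    (hfix : pw h.good L T₀ ∈ τ.fix) {r : ℕ} (hr : r ∈ L) (hne : T₀ r ≠ 0) :
    ∃ T : ℕ → F, pw h.good D.posRoots T ∈ τ.fix ∧ T r ≠ 0 := by
  refine ⟨fun x => if L.contains x then T₀ x else 0, ?_, by simpa [hr] using hne⟩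
  rw [← pw_eq_filter, hL]
  exact hfix

end Twist

end CfsgLib.Chev
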