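/-
The Coxeter group of type I₂ as a dihedral group.
-/
import Mathlib

set_option autoImplicit false

namespace CfsgLib.Chev

open DihedralGroup

/-- `I₂(m)` is dihedral -/
theorem coxeter_I_dihedral (m : ℕ) :
    Nonempty ((CoxeterMatrix.I m).Group ≃* DihedralGroup (m + 2)) := by
  set M := CoxeterMatrix.I m
  set cs := M.toCoxeterSystem
  let f : Fin 2 → DihedralGroup (m + 2) := fun i => if i = 0 then sr 0 else sr 1
  have h01 : M 0 1 = m + 2 := by simp [M, CoxeterMatrix.I]
  have h10 : M 1 0 = m + 2 := by simp [M, CoxeterMatrix.I]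
  have hn : ((m + 2 : ℕ) : ZMod (m + 2)) = 0 := ZMod.natCast_self _
  have hf : M.IsLiftable f := by
    intro i k
    fin_cases i <;> fin_cases k
    · simp [f, ← one_def]
    · show (sr 0 * sr 1 : DihedralGroup (m + 2)) ^ M 0 1 = 1
      rw [h01, sr_mul_sr, sub_zero, r_one_pow_n]
    · show (sr 1 * sr 0 : DihedralGroup (m + 2)) ^ M 1 0 = 1
      rw [h10, sr_mul_sr, zero_sub, show r (-1 : ZMod (m + 2)) = (r 1)⁻¹ from rfl, inv_pow,
        r_one_pow_n, inv_one]
    · simp [f, ← one_def]
  set φ := cs.lift ⟨f, hf⟩ with hφ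
  have hφs : ∀ i, φ (cs.simple i) = f i := fun i => cs.lift_apply_simple hf i
  set p := cs.simple 0 * cs.simple 1 with hp
  have hpn : p ^ (m + 2) = 1 := by
    rw [hp, ← h01]; exact cs.simple_mul_simple_pow 0 1
  have hmod : ∀ a : ℕ, p ^ (a % (m + 2)) = p ^ a := fun a => (pow_eq_pow_mod a hpn).symm
  have hadd : ∀ a b : ZMod (m + 2), p ^ (a + b).val = p ^ a.val * p ^ b.val := fun a b => by
    rw [ZMod.val_add, hmod, pow_add]
  let ψ : DihedralGroup (m + 2) → M.Group := fun x => match x with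
    | r j => p ^ j.val
    | sr j => cs.simple 0 * p ^ j.val
  have h1 : (1 : ZMod (m + 2)).val = 1 := by
    rw [ZMod.val_one_eq_one_mod]; exact Nat.mod_eq_of_lt (by omega)
  have key : ∀ i x, ψ (f i * x) = cs.simple i * ψ x := by
    intro i x
    fin_cases i <;> rcases x with j | j
    · show ψ (sr 0 * r j) = _
      rw [sr_mul_r, zero_add]; rfl
    · show ψ (sr 0 * sr j) = cs.simple 0 * (cs.simple 0 * p ^ j.val)
      rw [sr_mul_sr, sub_zero, cs.simple_mul_simple_cancel_left]
    · show ψ (sr 1 * r j) = cs.simple 1 * p ^ j.val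
      rw [sr_mul_r]
      show cs.simple 0 * p ^ (1 + j).val = _
      rw [hadd, h1, pow_one, ← mul_assoc, hp, cs.simple_mul_simple_cancel_left]
    · show ψ (sr 1 * sr j) = cs.simple 1 * (cs.simple 0 * p ^ j.val)
      rw [sr_mul_sr]
      show p ^ (j - 1).val = _
      have := hadd 1 (j - 1)
      rw [add_sub_cancel, h1, pow_one] at this
      rw [this, hp]
      simp only [mul_assoc, cs.simple_mul_simple_cancel_left]
  have hleft : ∀ w, ψ (φ w) = w := by
    intro w
    induction w using cs.simple_induction_left with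
    | one =>
      rw [map_one]
      show p ^ (0 : ZMod (m + 2)).val = 1
      rw [ZMod.val_zero, pow_zero]
    | mul_simple_left w i ih => rw [map_mul, hφs, key, ih]
  refine ⟨MulEquiv.ofBijective φ ⟨fun a b e => by rw [← hleft a, ← hleft b, e], fun x => ?_⟩⟩
  have hr : ∀ k : ℕ, r (k : ZMod (m + 2)) ∈ φ.range := fun k => by
    rw [← r_one_pow]
    have h : r (1 : ZMod (m + 2)) ∈ φ.range := ⟨p, by
      rw [hp, map_mul, hφs, hφs]
      show (sr 0 * sr 1 : DihedralGroup (m + 2)) = r 1
      rw [sr_mul_sr, sub_zero]⟩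
    exact pow_mem h k
  rcases x with j | j
  · exact ZMod.natCast_zmod_val j ▸ hr j.val
  · obtain ⟨w, hw⟩ : r j ∈ φ.range := ZMod.natCast_zmod_val j ▸ hr j.val
    refine ⟨cs.simple 0 * w, ?_⟩
    rw [map_mul, hφs, hw]
    show (sr 0 * r j : DihedralGroup (m + 2)) = sr j
    rw [sr_mul_r, zero_add]

end CfsgLib.Chev
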