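/-
Automorphisms of the adjoint module from symmetries of the root system.
-/
import Cfsg.Agent.Lib.Chev.Group

set_option autoImplicit false

namespace CfsgLib.Chev

open Cfsg.Lie Matrix

variable {D : ChevalleyDatum} {A : Aux} {F : Type*} [Field F]

/-- a symmetry of the tables: permutation of fundamental indices, of roots, and signs -/
structure GSym where
  pi : List ℕ
  rho : List ℕ
  gam : List ℤ

/-- the permuted fundamental index -/
def GSym.p (G : GSym) (i : ℕ) : ℕ := G.pi.getD i 0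
/-- the permuted root -/
def GSym.r (G : GSym) (s : ℕ) : ℕ := G.rho.getD s 0
/-- the sign at a root -/
def GSym.e (G : GSym) (s : ℕ) : ℤ := G.gam.getD s 1

/-- the check of a symmetry -/
noncomputable def GSym.check (D : ChevalleyDatum) (A : Aux) (G : GSym) : Bool :=
  decide (G.pi.Nodup ∧ G.rho.Nodup ∧ G.pi.length = D.rank ∧ G.rho.length = D.nroots) &&
  (List.range D.rank).all (fun i => decide (G.p i < D.rank ∧ G.r (D.simple i) = D.simple (G.p i) ∧
    G.e (D.simple i) = 1)) &&
  (List.range D.nroots).all fun r =>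
    decide (G.r r < D.nroots ∧ (G.e r = 1 ∨ G.e r = -1) ∧ G.e (A.neg r) = G.e r ∧
      G.r (A.neg r) = A.neg (G.r r)) &&
    ((List.range D.rank).all fun j => decide (A.coro (G.r r) (G.p j) = A.coro r j ∧
      A.cart (G.p j) (G.r r) = A.cart j r ∧ A.a (G.r r) (G.p j) = A.a r j)) &&
    (List.range D.nroots).all fun s => decide (A.chain (G.r r) (G.r s) =
      (A.chain r s).zipIdx.map fun q =>
        (G.r q.1.1, G.e q.1.1 * G.e r ^ (q.2 + 1) * G.e s * q.1.2))

/-- the meaning of the check -/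
structure GSym.Valid (D : ChevalleyDatum) (A : Aux) (G : GSym) : Prop where
  p_lt : ∀ i < D.rank, G.p i < D.rank
  p_inj : ∀ i < D.rank, ∀ j < D.rank, G.p i = G.p j → i = j
  r_simple : ∀ i < D.rank, G.r (D.simple i) = D.simple (G.p i)
  e_simple : ∀ i < D.rank, G.e (D.simple i) = 1
  r_lt : ∀ r < D.nroots, G.r r < D.nroots
  r_inj : ∀ r < D.nroots, ∀ s < D.nroots, G.r r = G.r s → r = s
  e_sign : ∀ r < D.nroots, G.e r = 1 ∨ G.e r = -1
  e_neg : ∀ r < D.nroots, G.e (A.neg r) = G.e r
  r_neg : ∀ r < D.nroots, G.r (A.neg r) = A.neg (G.r r)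
  coro : ∀ r < D.nroots, ∀ j < D.rank, A.coro (G.r r) (G.p j) = A.coro r j
  cart : ∀ r < D.nroots, ∀ j < D.rank, A.cart (G.p j) (G.r r) = A.cart j r
  coord : ∀ r < D.nroots, ∀ j < D.rank, A.a (G.r r) (G.p j) = A.a r j
  chain : ∀ r < D.nroots, ∀ s < D.nroots, A.chain (G.r r) (G.r s) =
    (A.chain r s).zipIdx.map fun q => (G.r q.1.1, G.e q.1.1 * G.e r ^ (q.2 + 1) * G.e s * q.1.2)

lemma getD_inj_of_nodup {L : List ℕ} (h : L.Nodup) {i j : ℕ} (hi : i < L.length) (hj : j < L.length)
    (e : L.getD i 0 = L.getD j 0) : i = j := by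
  simp only [List.getD_eq_getElem _ _ hi, List.getD_eq_getElem _ _ hj] at e
  exact (List.Nodup.getElem_inj_iff h).1 e

lemma GSym.valid_of_check {G : GSym} (h : G.check D A = true) : G.Valid D A := by
  simp only [GSym.check, Bool.and_eq_true, List.all_eq_true, List.mem_range, decide_eq_true_eq] at h
  obtain ⟨⟨⟨h1, h2, h3, h4⟩, h5⟩, h6⟩ := h
  exact
    { p_lt := fun i hi => (h5 i hi).1
      p_inj := fun i hi j hj e => getD_inj_of_nodup h1 (h3 ▸ hi) (h3 ▸ hj) e
      r_simple := fun i hi => (h5 i hi).2.1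
      e_simple := fun i hi => (h5 i hi).2.2
      r_lt := fun r hr => (h6 r hr).1.1.1
      r_inj := fun r hr s hs e => getD_inj_of_nodup h2 (h4 ▸ hr) (h4 ▸ hs) e
      e_sign := fun r hr => (h6 r hr).1.1.2.1
      e_neg := fun r hr => (h6 r hr).1.1.2.2.1
      r_neg := fun r hr => (h6 r hr).1.1.2.2.2
      coro := fun r hr j hj => ((h6 r hr).1.2 j hj).1
      cart := fun r hr j hj => ((h6 r hr).1.2 j hj).2.1
      coord := fun r hr j hj => ((h6 r hr).1.2 j hj).2.2
      chain := fun r hr s hs => (h6 r hr).2 s hs }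

/-- the image of a numbered coordinate -/
def GSym.img (D : ChevalleyDatum) (G : GSym) (k : ℕ) : ℕ :=
  if k < D.rank then G.p k else D.rank + G.r (k - D.rank)

/-- the sign of a numbered coordinate -/
def GSym.sgn (D : ChevalleyDatum) (G : GSym) (k : ℕ) : ℤ :=
  if k < D.rank then 1 else G.e (k - D.rank)

/-- the signed permutation matrix -/
noncomputable def GSym.mat (D : ChevalleyDatum) (F : Type*) [Field F] (G : GSym) :
    Matrix D.Idx D.Idx F :=
  Matrix.of fun row col => if idx D row = G.img D (idx D col) then (G.sgn D (idx D col) : F) else 0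

lemma GSym.mat_mulVec (G : GSym) {c : ℕ} (hc : c < D.rank + D.nroots) :
    G.mat D F *ᵥ ev D F c = (G.sgn D c : F) • ev D F (G.img D c) := by
  obtain ⟨x, rfl⟩ := exists_idx hc
  rw [mulVec_ev]
  funext row
  simp [GSym.mat, ev]

variable {G : GSym}

lemma GSym.mat_h (v : G.Valid D A) {j : ℕ} (hj : j < D.rank) :
    G.mat D F *ᵥ ev D F j = ev D F (G.p j) := by
  rw [G.mat_mulVec (by omega)]
  simp [GSym.sgn, GSym.img, hj]

lemma GSym.mat_root (v : G.Valid D A) {s : ℕ} (hs : s < D.nroots) :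
    G.mat D F *ᵥ ev D F (D.rank + s) = (G.e s : F) • ev D F (D.rank + G.r s) := by
  rw [G.mat_mulVec (by omega)]
  simp [GSym.sgn, GSym.img]

lemma GSym.sign_sq (v : G.Valid D A) {s : ℕ} (hs : s < D.nroots) :
    (G.e s : F) * (G.e s : F) = 1 := by
  rcases v.e_sign s hs with h | h <;> simp [h]

lemma GSym.mat_hsum (v : G.Valid D A) {r : ℕ} (hr : r < D.nroots) :
    G.mat D F *ᵥ hsum D F A r = hsum D F A (G.r r) := by
  rw [hsum, hsum, Matrix.mulVec_sum]
  refine Finset.sum_bij (fun j _ => G.p j) (fun j hj => Finset.mem_range.2 (v.p_lt j (Finset.mem_range.1 hj)))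
    (fun i hi j hj e => v.p_inj i (Finset.mem_range.1 hi) j (Finset.mem_range.1 hj) e) ?_ ?_
  · intro k hk
    have hsur : Function.Surjective fun j : Fin D.rank => (⟨G.p j, v.p_lt j j.isLt⟩ : Fin D.rank) :=
      Finite.injective_iff_surjective.1 fun a b e =>
        Fin.ext (v.p_inj a a.isLt b b.isLt (congrArg Fin.val e))
    obtain ⟨j, hj⟩ := hsur ⟨k, Finset.mem_range.1 hk⟩
    exact ⟨j, Finset.mem_range.2 j.isLt, congrArg Fin.val hj⟩
  · intro j hj
    rw [Matrix.mulVec_smul, GSym.mat_h v (Finset.mem_range.1 hj), v.coro r hr j (Finset.mem_range.1 hj)]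

/-- the matrix permutes the root elements up to sign -/
theorem GSym.mat_mul_x (g : Good D A) (v : G.Valid D A) {r : ℕ} (hr : r < D.nroots) (t : F) :
    G.mat D F * D.x F r t = D.x F (G.r r) ((G.e r : F) * t) * G.mat D F := by
  have hwr := v.r_lt r hr
  refine matrix_ext fun c hc => ?_
  rw [← Matrix.mulVec_mulVec, ← Matrix.mulVec_mulVec]
  rcases lt_or_ge c D.rank with h | h
  · rw [x_mulVec_h g hr t h, Matrix.mulVec_add, Matrix.mulVec_smul, GSym.mat_h v h,
      GSym.mat_root v hr, x_mulVec_h g hwr _ (v.p_lt c h), v.cart r hr c h, smul_smul]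
    congr 2
    ring
  obtain ⟨s, rfl⟩ : ∃ s, c = D.rank + s := ⟨c - D.rank, by omega⟩
  have hs : s < D.nroots := by omega
  rw [GSym.mat_root v hs, Matrix.mulVec_smul]
  rcases eq_or_ne s r with rfl | hsr
  · rw [x_mulVec_self g hs, x_mulVec_self g hwr, GSym.mat_root v hs]
  rcases eq_or_ne s (A.neg r) with rfl | hsn
  · rw [x_mulVec_neg g hr, Matrix.mulVec_add, Matrix.mulVec_add, Matrix.mulVec_smul,
      Matrix.mulVec_smul, GSym.mat_root v hr, GSym.mat_root v (g.neg_lt r hr), GSym.mat_hsum v hr,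
      v.r_neg r hr, v.e_neg r hr, x_mulVec_neg g hwr, smul_add, smul_add, smul_smul, smul_smul,
      smul_smul]
    congr 1
    · congr 2
      linear_combination (-t) * GSym.sign_sq (F := F) v hr
    · congr 1
      linear_combination ((G.e r : F) * t ^ 2) * GSym.sign_sq (F := F) v hr
  · have h1 : G.r s ≠ G.r r := fun e => hsr (v.r_inj s hs r hr e)
    have h2 : G.r s ≠ A.neg (G.r r) := fun e => hsn (by
      rw [← v.r_neg r hr] at e
      exact v.r_inj s hs _ (g.neg_lt r hr) e)
    rw [x_mulVec_chain g hr hs hsr hsn, x_mulVec_chain g hwr (v.r_lt s hs) h1 h2,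
      v.chain r hr s hs, Matrix.mulVec_add, smul_add, GSym.mat_root v hs]
    congr 1
    rw [zipIdx_map_zipIdx, List.map_map, List.smul_sum, List.map_map]
    have hlin : ∀ L : List (D.Idx → F), G.mat D F *ᵥ L.sum = (L.map (G.mat D F *ᵥ ·)).sum := by
      intro L
      induction L with
      | nil => simp
      | cons a L ih => simp [Matrix.mulVec_add, ih]
    rw [hlin, List.map_map]
    refine congrArg List.sum (List.map_congr_left fun q hq => ?_)
    simp only [Function.comp_def]
    have hu := (g.chain_mem r hr s hs q.2 q.1.1 q.1.2 (List.mem_zipIdx_iff_getElem?.1 hq)).1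
    rw [Matrix.mulVec_smul, GSym.mat_root v hu, smul_smul, smul_smul]
    congr 1
    push_cast
    rw [mul_pow]
    have e1 : (G.e r : F) ^ (q.2 + 1) * (G.e r : F) ^ (q.2 + 1) = 1 := by
      rw [← mul_pow, GSym.sign_sq (F := F) v hr, one_pow]
    calc (q.1.2 : F) * t ^ (q.2 + 1) * (G.e q.1.1 : F)
        = ((q.1.2 : F) * t ^ (q.2 + 1) * (G.e q.1.1 : F)) *
            (((G.e r : F) ^ (q.2 + 1) * (G.e r : F) ^ (q.2 + 1)) * ((G.e s : F) * (G.e s : F))) := by
          rw [e1, GSym.sign_sq (F := F) v hs]; ring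
      _ = _ := by ring

lemma GSym.mat_transpose_mul (v : G.Valid D A) :
    (G.mat D F).transpose * G.mat D F = 1 := by
  ext a b
  rw [Matrix.mul_apply, Matrix.one_apply]
  have hlt : ∀ x : D.Idx, G.img D (idx D x) < D.rank + D.nroots := by
    rintro (i | s)
    · have := v.p_lt i i.isLt
      simp [GSym.img, idx]; omega
    · have := v.r_lt s s.isLt
      simp [GSym.img, idx]; omega
  have hinj : ∀ x y : D.Idx, G.img D (idx D x) = G.img D (idx D y) → x = y := by
    rintro (i | s) (j | u) e <;> simp [GSym.img, idx] at e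
    · exact congrArg Sum.inl (Fin.ext (v.p_inj i i.isLt j j.isLt e))
    · have := v.p_lt i i.isLt; omega
    · have := v.p_lt j j.isLt; omega
    · exact congrArg Sum.inr (Fin.ext (v.r_inj s s.isLt u u.isLt e))
  have hsq : ∀ x : D.Idx, (G.sgn D (idx D x) : F) * (G.sgn D (idx D x) : F) = 1 := by
    rintro (i | s)
    · simp [GSym.sgn, idx]
    · simpa [GSym.sgn, idx] using GSym.sign_sq (F := F) v s.isLt
  obtain ⟨row, hrow⟩ := exists_idx (D := D) (hlt b)
  rw [Finset.sum_eq_single row]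
  · simp only [Matrix.transpose_apply, GSym.mat, Matrix.of_apply]
    by_cases hab : a = b
    · subst hab
      rw [if_pos hrow, if_pos rfl, hsq]
    · rw [if_neg hab, if_neg (fun e => hab (hinj a b (e.symm.trans hrow))), zero_mul]
  · intro x _ hx
    simp only [Matrix.transpose_apply, GSym.mat, Matrix.of_apply]
    rw [if_neg (show ¬ idx D x = G.img D (idx D b) from fun e => hx (idx_inj (e.trans hrow.symm))),
      mul_zero]
  · simp

/-- the matrix as an invertible matrix -/
noncomputable def GSym.unit (v : G.Valid D A) : GL D.Idx F :=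
  ⟨G.mat D F, (G.mat D F).transpose, mul_eq_one_comm.1 (GSym.mat_transpose_mul v),
    GSym.mat_transpose_mul v⟩

lemma GSym.conj_xG (g : Good D A) (v : G.Valid D A) {r : ℕ} (hr : r < D.nroots) (t : F) :
    (GSym.unit v : GL D.Idx F) * xG g r t * (GSym.unit v)⁻¹ = xG g (G.r r) ((G.e r : F) * t) := by
  rw [mul_inv_eq_iff_eq_mul]
  apply Units.ext
  simp only [Units.val_mul, xG_val]
  exact GSym.mat_mul_x g v hr t

lemma GSym.r_surj (v : G.Valid D A) {s : ℕ} (hs : s < D.nroots) : ∃ r < D.nroots, G.r r = s := by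
  have hsur : Function.Surjective fun j : Fin D.nroots => (⟨G.r j, v.r_lt j j.isLt⟩ : Fin D.nroots) :=
    Finite.injective_iff_surjective.1 fun a b e =>
      Fin.ext (v.r_inj a a.isLt b b.isLt (congrArg Fin.val e))
  obtain ⟨j, hj⟩ := hsur ⟨s, hs⟩
  exact ⟨j, j.isLt, congrArg Fin.val hj⟩

lemma GSym.map_group (g : Good D A) (v : G.Valid D A) :
    (D.group F).map (MulAut.conj (GSym.unit v : GL D.Idx F)).toMonoidHom = D.group F := by
  rw [group_eq g, MonoidHom.map_closure]
  refine congrArg Subgroup.closure (Set.ext fun y => ⟨?_, ?_⟩)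
  · rintro ⟨_, ⟨r, t, hr, rfl⟩, rfl⟩
    exact ⟨G.r r, _, v.r_lt r hr, GSym.conj_xG g v hr t⟩
  · rintro ⟨s, t, hs, rfl⟩
    obtain ⟨r, hr, rfl⟩ := GSym.r_surj v hs
    refine ⟨_, ⟨r, (G.e r : F) * t, hr, rfl⟩, ?_⟩
    show (GSym.unit v : GL D.Idx F) * xG g r _ * (GSym.unit v)⁻¹ = _
    rw [GSym.conj_xG g v hr, ← mul_assoc, GSym.sign_sq v hr, one_mul]

/-- the automorphism of the Chevalley group -/
noncomputable def GSym.aut (g : Good D A) (v : G.Valid D A) : ↥(D.group F) ≃* ↥(D.group F) :=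
  ((MulAut.conj (GSym.unit v : GL D.Idx F)).subgroupMap (D.group F)).trans
    (MulEquiv.subgroupCongr (GSym.map_group g v))

lemma GSym.aut_coe (g : Good D A) (v : G.Valid D A) (y : ↥(D.group F)) :
    ((GSym.aut g v y : ↥(D.group F)) : GL D.Idx F) =
      (GSym.unit v : GL D.Idx F) * (y : GL D.Idx F) * (GSym.unit v)⁻¹ := rfl

lemma GSym.aut_xG (g : Good D A) (v : G.Valid D A) {r : ℕ} (hr : r < D.nroots) (t : F) :
    ((GSym.aut g v ⟨xG g r t, xG_mem_group g r t⟩ : ↥(D.group F)) : GL D.Idx F) =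
      xG g (G.r r) ((G.e r : F) * t) := by
  rw [GSym.aut_coe]; exact GSym.conj_xG g v hr t

end CfsgLib.Chev
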