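/-
Special isogenies of the types B2, F4 (characteristic 2) and G2 (characteristic 3).
The short root vectors and short simple coroots span an invariant block of the adjoint module modulo p;
the isogeny compares the action on that block with the action on the quotient.
-/
import Cfsg.Agent.Lib.Chev.Simple

set_option autoImplicit false

namespace CfsgLib.Chev

open Cfsg.Lie Matrix

variable {D : ChevalleyDatum} {A : Aux} {F : Type*} [Field F]

/-- for an irreducible pair a normal subgroup is in the Borel subgroup or supplements it -/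
theorem BN.normal_dichotomy {G : Type*} [Group G] {P : Cfsg.BNPair G} (hirr : P.Irreducible)
    (M : Subgroup G) [M.Normal] : M ≤ P.B ∨ P.B ⊔ M = ⊤ := by
  by_cases hMB : M ≤ P.B
  · exact Or.inl hMB
  right
  have hJ : BN.gens P (P.B ⊔ M) ⊆ P.S := fun _ h => h.1
  have hM1 := BN.eq_parabolic_of_le (P := P) (le_sup_left : P.B ≤ P.B ⊔ M)
  have hne : (BN.gens P (P.B ⊔ M)).Nonempty := by
    rw [Set.nonempty_iff_ne_empty]
    intro he
    rw [he] at hM1
    apply hMB
    have : P.parabolic ∅ = P.B := by simp [Cfsg.BNPair.parabolic]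
    rw [this] at hM1
    exact le_trans le_sup_right hM1.le
  have hall : BN.gens P (P.B ⊔ M) = P.S := by
    by_contra hne'
    have hdiff : (P.S \ BN.gens P (P.B ⊔ M)).Nonempty :=
      Set.sdiff_nonempty.2 fun h => hne' (Set.Subset.antisymm hJ h)
    obtain ⟨s, hs, s', hs', hcomm⟩ := hirr _ hJ hne hdiff
    exact hcomm (BN.commute_of_normal_parabolic hJ hM1 hs hs'.1 hs'.2)
  rw [hall, BN.parabolic_S] at hM1
  exact hM1

/-- data of a special isogeny: characteristic, the block, its image in the quotient, roots, exponents -/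
structure Iso where
  p : ℕ
  src : List ℕ
  dst : List ℕ
  rho : List ℕ
  lam : List ℕ

/-- the image root -/
def Iso.r (I : Iso) (s : ℕ) : ℕ := I.rho.getD s 0
/-- the exponent -/
def Iso.l (I : Iso) (s : ℕ) : ℕ := I.lam.getD s 1

variable (D A) in
/-- the terms of the `j`-th block column of `x_r` with block positions -/
noncomputable def blockTerms (L : List ℕ) (r j k : ℕ) : List ((ℕ × ℕ) × ℤ) :=
  (A.col D.rank D.nroots r (L.getD j 0)).map fun q => ((L.idxOf q.1, q.2.2 * k), q.2.1)

variable (D A) in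
/-- a root element of a negative fundamental root is not triangular on the block -/
noncomputable def nonTri (p : ℕ) (L : List ℕ) : Bool :=
  (List.range D.rank).any fun k => (List.range L.length).any fun i => (List.range L.length).any fun j =>
    decide (wN D A (L.getD i 0) < wN D A (L.getD j 0)) &&
      decide (¬ (p : ℤ) ∣ (((A.col D.rank D.nroots (A.neg (D.simple k)) (L.getD j 0)).filter
        fun q => decide (q.1 = L.getD i 0)).map fun q => q.2.1).sum)

/-- the check -/
noncomputable def Iso.check (D : ChevalleyDatum) (A : Aux) (I : Iso) : Bool :=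
  decide (Nat.Prime I.p ∧ I.rho.Nodup ∧ I.rho.length = D.nroots ∧
    (I.src ++ I.dst).Nodup ∧ (I.src ++ I.dst).length = D.rank + D.nroots ∧
    I.src.length = I.dst.length) &&
  (I.src ++ I.dst).all (fun c => decide (c < D.rank + D.nroots)) &&
  (List.range D.nroots).all (fun r => decide (I.r r < D.nroots ∧ (I.l r = 1 ∨ I.l r = I.p))) &&
  (List.range D.nroots).all (fun r => (List.range I.src.length).all fun j =>
    (A.col D.rank D.nroots r (I.src.getD j 0)).all fun q =>
      !(I.dst.contains q.1) || decide ((I.p : ℤ) ∣ q.2.1)) &&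
  (List.range D.nroots).all (fun r => (List.range I.src.length).all fun j =>
    (snorm (blockTerms D A I.dst r j 1 ++
      (blockTerms D A I.src (I.r r) j (I.l r)).map fun e => (e.1, -e.2))).all
        fun e => decide (I.src.length ≤ e.1.1 ∨ (I.p : ℤ) ∣ e.2)) &&
  nonTri D A I.p I.src && nonTri D A I.p I.dst

/-- the meaning of the check -/
structure Iso.Valid (D : ChevalleyDatum) (A : Aux) (I : Iso) : Prop where
  prime : Nat.Prime I.p
  nodup : (I.src ++ I.dst).Nodup
  total : (I.src ++ I.dst).length = D.rank + D.nroots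
  len : I.src.length = I.dst.length
  bound : ∀ c ∈ I.src ++ I.dst, c < D.rank + D.nroots
  rho_nodup : I.rho.Nodup
  rho_len : I.rho.length = D.nroots
  r_lt : ∀ r < D.nroots, I.r r < D.nroots
  l_cases : ∀ r < D.nroots, I.l r = 1 ∨ I.l r = I.p
  inv : ∀ r < D.nroots, ∀ j < I.src.length, ∀ q ∈ A.col D.rank D.nroots r (I.src.getD j 0),
    q.1 ∈ I.dst → (I.p : ℤ) ∣ q.2.1
  eqn : ∀ r < D.nroots, ∀ j < I.src.length, ∀ e ∈ snorm (blockTerms D A I.dst r j 1 ++
      (blockTerms D A I.src (I.r r) j (I.l r)).map fun e => (e.1, -e.2)),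
    I.src.length ≤ e.1.1 ∨ (I.p : ℤ) ∣ e.2
  tri_src : nonTri D A I.p I.src = true
  tri_dst : nonTri D A I.p I.dst = true

lemma Iso.valid_of_check {I : Iso} (h : I.check D A = true) : I.Valid D A := by
  simp only [Iso.check, Bool.and_eq_true, List.all_eq_true, List.mem_range, decide_eq_true_eq,
    Bool.or_eq_true, Bool.not_eq_true', List.contains_iff_mem, decide_eq_false_iff_not] at h
  obtain ⟨⟨⟨⟨⟨⟨⟨h1, h2, h3, h4, h5, h6⟩, hb⟩, hr⟩, hi⟩, he⟩, ht⟩, ht'⟩ := h
  exact
    { prime := h1
      nodup := h4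
      total := h5
      len := h6
      bound := hb
      rho_nodup := h2
      rho_len := h3
      r_lt := fun r hr' => (hr r hr').1
      l_cases := fun r hr' => (hr r hr').2
      inv := fun r hr' j hj q hq hm => (hi r hr' j hj q hq).resolve_left fun hc => by
        rw [List.contains_iff_mem.2 hm] at hc
        exact Bool.noConfusion hc
      eqn := he
      tri_src := ht
      tri_dst := ht' }

variable {I : Iso}

lemma Iso.r_surj (v : I.Valid D A) {s : ℕ} (hs : s < D.nroots) : ∃ r < D.nroots, I.r r = s := by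
  have hinj : Function.Injective fun j : Fin D.nroots => (⟨I.r j, v.r_lt j j.isLt⟩ : Fin D.nroots) := by
    intro a b e
    have e' : I.rho.getD a 0 = I.rho.getD b 0 := congrArg Fin.val e
    have ha : a.val < I.rho.length := by rw [v.rho_len]; exact a.isLt
    have hb : b.val < I.rho.length := by rw [v.rho_len]; exact b.isLt
    simp only [List.getD_eq_getElem _ _ ha, List.getD_eq_getElem _ _ hb] at e'
    exact Fin.ext ((List.Nodup.getElem_inj_iff v.rho_nodup).1 e')
  obtain ⟨j, hj⟩ := Finite.injective_iff_surjective.1 hinj ⟨s, hs⟩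
  exact ⟨j, j.isLt, congrArg Fin.val hj⟩

/-- the coordinate at a block position -/
noncomputable def pos (L : List ℕ) (hL : ∀ c ∈ L, c < D.rank + D.nroots) (a : Fin L.length) :
    D.Idx := (exists_idx (hL _ (List.getElem_mem a.isLt))).choose

lemma idx_pos (L : List ℕ) (hL : ∀ c ∈ L, c < D.rank + D.nroots) (a : Fin L.length) :
    idx D (pos L hL a) = L.getD a 0 := by
  rw [pos, (exists_idx (hL _ (List.getElem_mem a.isLt))).choose_spec, List.getD_eq_getElem _ _ a.isLt]

/-- coordinates of the block -/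
noncomputable def Iso.s1 (v : I.Valid D A) (a : Fin I.src.length) : D.Idx :=
  pos I.src (fun c hc => v.bound c (List.mem_append_left _ hc)) a

/-- coordinates of the quotient -/
noncomputable def Iso.s2 (v : I.Valid D A) (a : Fin I.src.length) : D.Idx :=
  pos I.dst (fun c hc => v.bound c (List.mem_append_right _ hc)) (Fin.cast v.len a)

lemma Iso.idx_s1 (v : I.Valid D A) (a : Fin I.src.length) :
    idx D (Iso.s1 v a) = I.src.getD a 0 := idx_pos _ _ a

lemma Iso.idx_s2 (v : I.Valid D A) (a : Fin I.src.length) :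
    idx D (Iso.s2 v a) = I.dst.getD a 0 := idx_pos _ _ _

lemma Iso.split_bij (v : I.Valid D A) :
    Function.Bijective (Sum.elim (Iso.s1 v) (Iso.s2 v)) := by
  refine (Fintype.bijective_iff_injective_and_card _).2 ⟨?_, ?_⟩
  · obtain ⟨n1, n2, n12⟩ := List.nodup_append.1 v.nodup
    have m1 : ∀ a : Fin I.src.length, I.src.getD a 0 ∈ I.src := fun a => by
      rw [List.getD_eq_getElem _ _ a.isLt]; exact List.getElem_mem _
    have m2 : ∀ a : Fin I.src.length, I.dst.getD a 0 ∈ I.dst := fun a => by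
      rw [List.getD_eq_getElem _ _ (v.len ▸ a.isLt)]; exact List.getElem_mem _
    rintro (a | a) (b | b) e <;> have e' := congrArg (idx D) e <;>
      simp only [Sum.elim_inl, Sum.elim_inr, Iso.idx_s1, Iso.idx_s2] at e'
    · exact congrArg Sum.inl (Fin.ext (getD_inj n1 a.isLt b.isLt e'))
    · exact absurd e' (n12 _ (m1 a) _ (m2 b))
    · exact absurd e'.symm (n12 _ (m1 b) _ (m2 a))
    · exact congrArg Sum.inr (Fin.ext (getD_inj n2 (v.len ▸ a.isLt) (v.len ▸ b.isLt) e'))
  · have h1 := v.total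
    have h2 := v.len
    rw [List.length_append] at h1
    simp only [Fintype.card_sum, Fintype.card_fin, ChevalleyDatum.Idx]
    omega
where
  getD_inj {L : List ℕ} (h : L.Nodup) {i j : ℕ} (hi : i < L.length) (hj : j < L.length)
      (e : L.getD i 0 = L.getD j 0) : i = j := by
    simp only [List.getD_eq_getElem _ _ hi, List.getD_eq_getElem _ _ hj] at e
    exact (List.Nodup.getElem_inj_iff h).1 e

/-- the coordinates split into block and quotient -/
noncomputable def Iso.split (v : I.Valid D A) : Fin I.src.length ⊕ Fin I.src.length ≃ D.Idx :=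
  Equiv.ofBijective _ (Iso.split_bij v)

/-- the block is invariant -/
def Iso.Inv (v : I.Valid D A) (M : Matrix D.Idx D.Idx F) : Prop :=
  ∀ a b, M (Iso.s2 v a) (Iso.s1 v b) = 0

lemma Iso.mul_blocks (v : I.Valid D A) {M N : Matrix D.Idx D.Idx F} (hM : Iso.Inv v M)
    (hN : Iso.Inv v N) :
    Iso.Inv v (M * N) ∧
    (M * N).submatrix (Iso.s1 v) (Iso.s1 v) =
      M.submatrix (Iso.s1 v) (Iso.s1 v) * N.submatrix (Iso.s1 v) (Iso.s1 v) ∧
    (M * N).submatrix (Iso.s2 v) (Iso.s2 v) =
      M.submatrix (Iso.s2 v) (Iso.s2 v) * N.submatrix (Iso.s2 v) (Iso.s2 v) := by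
  have key : ∀ x y, (M * N) x y = (∑ c, M x (Iso.s1 v c) * N (Iso.s1 v c) y) +
      ∑ c, M x (Iso.s2 v c) * N (Iso.s2 v c) y := by
    intro x y
    rw [Matrix.mul_apply, ← (Iso.split v).sum_comp, Fintype.sum_sum_type]
    rfl
  refine ⟨fun a b => ?_, ?_, ?_⟩
  · rw [key]
    simp [hM a, fun c => hN c b]
  · ext a b
    rw [Matrix.submatrix_apply, key, Matrix.mul_apply]
    simp [fun c => hN c b]
  · ext a b
    rw [Matrix.submatrix_apply, key, Matrix.mul_apply]
    simp [hM a]

lemma sum_ite_dvd {F : Type*} [Field F] {p : ℕ} [CharP F p] (L : List (ℕ × ℤ × ℕ)) (t : F) (c : ℕ)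
    (h : ∀ q ∈ L, q.1 = c → (p : ℤ) ∣ q.2.1) :
    (L.map fun q => if c = q.1 then (q.2.1 : F) * t ^ q.2.2 else 0).sum = 0 := by
  refine List.sum_eq_zero fun x hx => ?_
  obtain ⟨q, hq, rfl⟩ := List.mem_map.1 hx
  split_ifs with e
  · rw [(CharP.intCast_eq_zero_iff F p _).2 (h q hq e.symm), zero_mul]
  · rfl

lemma Iso.inv_x [CharP F I.p] (g : Good D A) (v : I.Valid D A) {r : ℕ} (hr : r < D.nroots) (t : F) :
    Iso.Inv v (D.x F r t) := by
  intro a b
  have h := congrFun (x_mulVec (F := F) g hr t (idx D (Iso.s1 v b))) (Iso.s2 v a)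
  rw [mulVec_ev] at h
  refine h.trans ?_
  have hne : idx D (Iso.s2 v a) ≠ idx D (Iso.s1 v b) := fun e =>
    Sum.inr_ne_inl ((Iso.split v).injective
      (show Iso.split v (Sum.inr a) = Iso.split v (Sum.inl b) from idx_inj e))
  rw [Pi.add_apply, tval_apply, Iso.idx_s2, Iso.idx_s1, sum_ite_dvd (p := I.p)]
  · rw [add_zero, ← Iso.idx_s1 v b]
    simp [ev, hne]
  · intro q hq e
    refine v.inv r hr b b.isLt q hq ?_
    rw [e, List.getD_eq_getElem _ _ (v.len ▸ a.isLt)]
    exact List.getElem_mem _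

lemma Iso.group_inv [CharP F I.p] (g : Good D A) (v : I.Valid D A) {y : GL D.Idx F}
    (hy : y ∈ D.group F) :
    Iso.Inv v (y : Matrix D.Idx D.Idx F) ∧
      Iso.Inv v ((y⁻¹ : GL D.Idx F) : Matrix D.Idx D.Idx F) := by
  rw [group_eq g] at hy
  induction hy using Subgroup.closure_induction with
  | mem y hy =>
    obtain ⟨r, t, hr, rfl⟩ := hy
    rw [xG_inv, xG_val, xG_val]
    exact ⟨Iso.inv_x g v hr t, Iso.inv_x g v hr (-t)⟩
  | one =>
    have : Iso.Inv v (1 : Matrix D.Idx D.Idx F) := fun a b => Matrix.one_apply_ne fun e =>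
      Sum.inr_ne_inl ((Iso.split v).injective
        (show Iso.split v (Sum.inr a) = Iso.split v (Sum.inl b) from e))
    simpa using And.intro this this
  | mul a b _ _ ha hb =>
    rw [_root_.mul_inv_rev, Units.val_mul, Units.val_mul]
    exact ⟨(Iso.mul_blocks v ha.1 hb.1).1, (Iso.mul_blocks v hb.2 ha.2).1⟩
  | inv a _ ha => exact ⟨ha.2, by rw [inv_inv]; exact ha.1⟩

lemma Iso.submatrix_one (v : I.Valid D A) :
    (1 : Matrix D.Idx D.Idx F).submatrix (Iso.s1 v) (Iso.s1 v) = 1 ∧
    (1 : Matrix D.Idx D.Idx F).submatrix (Iso.s2 v) (Iso.s2 v) = 1 :=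
  ⟨Matrix.submatrix_one _ fun _ _ e => Sum.inl_injective ((Iso.split v).injective
      (show Iso.split v (Sum.inl _) = Iso.split v (Sum.inl _) from e)),
    Matrix.submatrix_one _ fun _ _ e => Sum.inr_injective ((Iso.split v).injective
      (show Iso.split v (Sum.inr _) = Iso.split v (Sum.inr _) from e))⟩

/-- the action on the block -/
noncomputable def Iso.phi1 [CharP F I.p] (g : Good D A) (v : I.Valid D A) :
    ↥(D.group F) →* GL (Fin I.src.length) F :=
  MonoidHom.toHomUnits
    { toFun := fun y => ((y : GL D.Idx F) : Matrix D.Idx D.Idx F).submatrix (Iso.s1 v) (Iso.s1 v)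
      map_one' := (Iso.submatrix_one v).1
      map_mul' := fun x y =>
        (Iso.mul_blocks v (Iso.group_inv g v x.2).1 (Iso.group_inv g v y.2).1).2.1 }

/-- the action on the quotient -/
noncomputable def Iso.phi2 [CharP F I.p] (g : Good D A) (v : I.Valid D A) :
    ↥(D.group F) →* GL (Fin I.src.length) F :=
  MonoidHom.toHomUnits
    { toFun := fun y => ((y : GL D.Idx F) : Matrix D.Idx D.Idx F).submatrix (Iso.s2 v) (Iso.s2 v)
      map_one' := (Iso.submatrix_one v).2
      map_mul' := fun x y =>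
        (Iso.mul_blocks v (Iso.group_inv g v x.2).1 (Iso.group_inv g v y.2).1).2.2 }

lemma Iso.phi1_val [CharP F I.p] (g : Good D A) (v : I.Valid D A) (y : ↥(D.group F)) :
    ((Iso.phi1 g v y : GL (Fin I.src.length) F) : Matrix _ _ F) =
      ((y : GL D.Idx F) : Matrix D.Idx D.Idx F).submatrix (Iso.s1 v) (Iso.s1 v) :=
  MonoidHom.coe_toHomUnits _ y

lemma Iso.phi2_val [CharP F I.p] (g : Good D A) (v : I.Valid D A) (y : ↥(D.group F)) :
    ((Iso.phi2 g v y : GL (Fin I.src.length) F) : Matrix _ _ F) =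
      ((y : GL D.Idx F) : Matrix D.Idx D.Idx F).submatrix (Iso.s2 v) (Iso.s2 v) :=
  MonoidHom.coe_toHomUnits _ y

/-- a block entry of a root element as a sparse sum -/
lemma x_block_entry (g : Good D A) {r : ℕ} (hr : r < D.nroots) (t : F) {L : List ℕ} (hn : L.Nodup)
    {i j : ℕ} (hi : i < L.length) (k : ℕ) {x y : D.Idx} (hx : idx D x = L.getD i 0)
    (hy : idx D y = L.getD j 0) :
    D.x F r (t ^ k) x y = (if x = y then 1 else 0) +
      sval (fun e : ℕ × ℕ => if e.1 = i then t ^ e.2 else 0) (blockTerms D A L r j k) := by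
  have h := congrFun (x_mulVec (F := F) g hr (t ^ k) (idx D y)) x
  rw [mulVec_ev] at h
  refine h.trans ?_
  rw [Pi.add_apply, tval_apply, hy, blockTerms, sval, List.map_map]
  congr 1
  · by_cases e : x = y
    · subst e
      show (if idx D x = L.getD j 0 then (1 : F) else 0) = _
      rw [if_pos hy, if_pos rfl]
    · show (if idx D x = L.getD j 0 then (1 : F) else 0) = _
      rw [if_neg fun e' => e (idx_inj (e'.trans hy.symm)), if_neg e]
  · refine congrArg List.sum (List.map_congr_left fun q _ => ?_)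
    simp only [Function.comp_def, hx]
    have hiff : L.idxOf q.1 = i ↔ L.getD i 0 = q.1 := by
      rw [List.getD_eq_getElem _ _ hi]
      constructor
      · intro e
        have hlt : L.idxOf q.1 < L.length := e ▸ hi
        have := List.getElem_idxOf hlt
        simp only [e] at this
        exact this
      · intro e
        rw [← e, List.Nodup.idxOf_getElem hn i hi]
    by_cases e : L.getD i 0 = q.1
    · rw [if_pos e, if_pos (hiff.2 e), zsmul_eq_mul, ← pow_mul, mul_comm k]
    · rw [if_neg e, if_neg (fun e' => e (hiff.1 e')), smul_zero]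

lemma Iso.phi_x [CharP F I.p] (g : Good D A) (v : I.Valid D A) {r : ℕ} (hr : r < D.nroots) (t : F) :
    Iso.phi2 g v ⟨xG g r t, xG_mem_group g r t⟩ =
      Iso.phi1 g v ⟨xG g (I.r r) (t ^ I.l r), xG_mem_group g _ _⟩ := by
  apply Units.ext
  rw [Iso.phi1_val, Iso.phi2_val]
  ext a b
  simp only [Matrix.submatrix_apply, xG_val]
  obtain ⟨n1, n2, -⟩ := List.nodup_append.1 v.nodup
  have h2 := x_block_entry g hr t n2 (j := b) (v.len ▸ a.isLt) 1 (Iso.idx_s2 v a) (Iso.idx_s2 v b)
  rw [pow_one] at h2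
  rw [h2, x_block_entry g (v.r_lt r hr) t n1 (j := b) a.isLt (I.l r) (Iso.idx_s1 v a)
    (Iso.idx_s1 v b)]
  congr 1
  · have e1 : Iso.s2 v a = Iso.s2 v b ↔ a = b := ⟨fun e => Sum.inr_injective
      ((Iso.split v).injective (show Iso.split v (Sum.inr a) = Iso.split v (Sum.inr b) from e)),
      fun e => e ▸ rfl⟩
    have e2 : Iso.s1 v a = Iso.s1 v b ↔ a = b := ⟨fun e => Sum.inl_injective
      ((Iso.split v).injective (show Iso.split v (Sum.inl a) = Iso.split v (Sum.inl b) from e)),
      fun e => e ▸ rfl⟩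
    by_cases h : a = b
    · rw [if_pos (e1.2 h), if_pos (e2.2 h)]
    · rw [if_neg (fun e => h (e1.1 e)), if_neg (fun e => h (e2.1 e))]
  · set gf := fun e : ℕ × ℕ => if e.1 = a.val then t ^ e.2 else 0 with hgf
    have hneg : ∀ u : List ((ℕ × ℕ) × ℤ), sval gf (u.map fun p => (p.1, -p.2)) = -sval gf u := by
      intro u
      induction u with
      | nil => simp [sval]
      | cons x u ih => simp [sval_cons, ih, add_comm]
    rw [← sub_eq_zero, sub_eq_add_neg, ← hneg, ← sval_append, ← sval_snorm]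
    refine List.sum_eq_zero fun z hz => ?_
    obtain ⟨e, he, rfl⟩ := List.mem_map.1 hz
    rcases v.eqn r hr b b.isLt e he with h | h
    · have ha := a.isLt
      simp [hgf, show e.1.1 ≠ a.val by omega]
    · rw [zsmul_eq_mul, (CharP.intCast_eq_zero_iff F I.p _).2 h, zero_mul]

/-- a homomorphism that reads a triangular block is injective -/
lemma injective_of_nonTri {p : ℕ} [CharP F p] (h : Std D A) (hC : conn D A = true) {L : List ℕ}
    {H : Type*} [Group H] (φ : ↥(D.group F) →* H) (ht : nonTri D A p L = true)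
    (hφ : ∀ x y : ↥(D.group F), φ x = φ y → ∀ i < L.length, ∀ j < L.length, ∀ a b : D.Idx,
      idx D a = L.getD i 0 → idx D b = L.getD j 0 →
      ((x : GL D.Idx F) : Matrix D.Idx D.Idx F) a b = ((y : GL D.Idx F) : Matrix D.Idx D.Idx F) a b)
    (hL : ∀ c ∈ L, c < D.rank + D.nroots) :
    Function.Injective φ := by
  rw [← MonoidHom.ker_eq_bot_iff]
  rcases BN.normal_dichotomy (irreducible_of_conn (F := F) h hC) φ.ker with hB | hB
  · exact le_bot_iff.1 (borel_core_trivial (F := F) h ▸ Subgroup.normal_le_normalCore.2 hB)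
  exfalso
  simp only [nonTri, List.any_eq_true, List.mem_range, Bool.and_eq_true, decide_eq_true_eq] at ht
  obtain ⟨k, hk, i, hi, j, hj, hlt, hndvd⟩ := ht
  set r := A.neg (D.simple k) with hrdef
  have hr : r < D.nroots := h.good.neg_lt _ (h.good.simple_lt k hk)
  set x : ↥(D.group F) := ⟨xG h.good r 1, xG_mem_group h.good r 1⟩
  have hx : x ∈ (bnPair (F := F) h).B ⊔ φ.ker := by rw [hB]; trivial
  rw [← SetLike.mem_coe, Subgroup.mul_normal] at hx
  obtain ⟨b, hb, m, hm, e⟩ := hx
  have hbφ : φ x = φ b := by rw [← e, map_mul, MonoidHom.mem_ker.1 hm, mul_one]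
  obtain ⟨a, ha⟩ := exists_idx (hL _ (by
    rw [List.getD_eq_getElem _ _ hi]; exact List.getElem_mem hi) : L.getD i 0 < D.rank + D.nroots)
  obtain ⟨c, hc⟩ := exists_idx (hL _ (by
    rw [List.getD_eq_getElem _ _ hj]; exact List.getElem_mem hj) : L.getD j 0 < D.rank + D.nroots)
  have hEq := hφ x b hbφ i hi j hj a c ha hc
  have hbz : ((b : GL D.Idx F) : Matrix D.Idx D.Idx F) a c = 0 := by
    refine (borel_le_utG h hb).1 a c ?_
    show 1 * wgt D A a < 1 * wgt D A c
    rw [one_mul, one_mul, ← wN_idx, ← wN_idx, ha, hc]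
    exact hlt
  have hxv : ((x : GL D.Idx F) : Matrix D.Idx D.Idx F) a c = D.x F r 1 a c := by rw [xG_val]
  rw [hxv, hbz] at hEq
  have h1 := congrFun (x_mulVec (F := F) h.good hr 1 (idx D c)) a
  rw [mulVec_ev] at h1
  have h1' : D.x F r 1 a c =
      (ev D F (idx D c) + tval D (1 : F) (A.col D.rank D.nroots r (idx D c)) : D.Idx → F) a := h1
  have hac : idx D a ≠ idx D c := fun e => by
    rw [ha, hc] at e; rw [e] at hlt; exact lt_irrefl _ hlt
  rw [h1', Pi.add_apply, tval_apply, show ev D F (idx D c) a = 0 by simp [ev, hac], zero_add,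
    ha, hc] at hEq
  apply hndvd
  rw [← CharP.intCast_eq_zero_iff F p, ← hEq, Int.cast_list_sum, List.map_map]
  rw [sum_filter_map]
  refine congrArg List.sum (List.map_congr_left fun q _ => ?_)
  by_cases e : q.1 = L.getD i 0
  · rw [if_pos e, if_pos e.symm]; simp
  · rw [if_neg e, if_neg (fun e' => e e'.symm)]

lemma Iso.phi1_inj [CharP F I.p] (h : Std D A) (hC : conn D A = true) (v : I.Valid D A) :
    Function.Injective (Iso.phi1 (F := F) h.good v) := by
  refine injective_of_nonTri (p := I.p) h hC _ v.tri_src ?_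
    (fun c hc => v.bound c (List.mem_append_left _ hc))
  intro x y e i hi j hj a b ha hb
  have e' := (Matrix.ext_iff.2 (congrArg Units.val e)) ⟨i, hi⟩ ⟨j, hj⟩
  rw [Iso.phi1_val, Iso.phi1_val] at e'
  simpa [idx_inj (ha.trans (Iso.idx_s1 v ⟨i, hi⟩).symm),
    idx_inj (hb.trans (Iso.idx_s1 v ⟨j, hj⟩).symm)] using e'

lemma Iso.phi2_inj [CharP F I.p] (h : Std D A) (hC : conn D A = true) (v : I.Valid D A) :
    Function.Injective (Iso.phi2 (F := F) h.good v) := by
  refine injective_of_nonTri (p := I.p) h hC _ v.tri_dst ?_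
    (fun c hc => v.bound c (List.mem_append_right _ hc))
  intro x y e i hi j hj a b ha hb
  have e' := (Matrix.ext_iff.2 (congrArg Units.val e)) ⟨i, v.len.symm ▸ hi⟩ ⟨j, v.len.symm ▸ hj⟩
  rw [Iso.phi2_val, Iso.phi2_val] at e'
  simpa [idx_inj (ha.trans (Iso.idx_s2 v ⟨i, v.len.symm ▸ hi⟩).symm),
    idx_inj (hb.trans (Iso.idx_s2 v ⟨j, v.len.symm ▸ hj⟩).symm)] using e'

/-- the special isogeny -/
theorem Iso.exists_hom [CharP F I.p] (h : Std D A) (hC : conn D A = true) (v : I.Valid D A) :
    ∃ α : ↥(D.group F) →* ↥(D.group F), Function.Injective α ∧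
      ∀ r < D.nroots, ∀ t : F, ((α ⟨xG h.good r t, xG_mem_group h.good r t⟩ : ↥(D.group F)) :
        GL D.Idx F) = xG h.good (I.r r) (t ^ I.l r) := by
  set f1 := Iso.phi1 (F := F) h.good v
  set f2 := Iso.phi2 (F := F) h.good v
  have h1 : Function.Injective f1 := Iso.phi1_inj h hC v
  have hr : ∀ y : ↥(D.group F), f2 y ∈ f1.range := by
    rintro ⟨y, hy⟩
    have hy' := hy
    rw [group_eq h.good] at hy'
    induction hy' using Subgroup.closure_induction with
    | mem z hz =>
      obtain ⟨r, t, hr, rfl⟩ := hz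
      exact ⟨_, (Iso.phi_x h.good v hr t).symm⟩
    | one => exact ⟨1, by rw [map_one]; exact (map_one f2).symm⟩
    | mul a b ha hb iha ihb =>
      rw [← group_eq h.good] at ha hb
      have e : (⟨a * b, hy⟩ : ↥(D.group F)) = ⟨a, ha⟩ * ⟨b, hb⟩ := rfl
      rw [e, map_mul]
      exact mul_mem (iha ha) (ihb hb)
    | inv a ha iha =>
      rw [← group_eq h.good] at ha
      have e : (⟨a⁻¹, hy⟩ : ↥(D.group F)) = (⟨a, ha⟩ : ↥(D.group F))⁻¹ := rfl
      rw [e, map_inv]
      exact inv_mem (iha ha)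
  set α : ↥(D.group F) →* ↥(D.group F) :=
    (MonoidHom.ofInjective h1).symm.toMonoidHom.comp (f2.codRestrict f1.range hr)
  have key : ∀ y, f1 (α y) = f2 y := fun y =>
    MonoidHom.apply_ofInjective_symm h1 ⟨f2 y, hr y⟩
  refine ⟨α, fun x y e => Iso.phi2_inj h hC v ?_, fun r hrr t => ?_⟩
  · show f2 x = f2 y
    rw [← key, ← key, e]
  · exact congrArg Subtype.val (h1 ((key _).trans (Iso.phi_x h.good v hrr t)))

/-- over a perfect field the special isogeny is an automorphism -/
theorem Iso.exists_aut [CharP F I.p] (h : Std D A) (hC : conn D A = true) (v : I.Valid D A)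
    (hperf : ∀ x : F, ∃ y : F, y ^ I.p = x) :
    ∃ α : ↥(D.group F) ≃* ↥(D.group F),
      ∀ r < D.nroots, ∀ t : F, ((α ⟨xG h.good r t, xG_mem_group h.good r t⟩ : ↥(D.group F)) :
        GL D.Idx F) = xG h.good (I.r r) (t ^ I.l r) := by
  obtain ⟨α, hinj, hα⟩ := Iso.exists_hom (F := F) h hC v
  refine ⟨MulEquiv.ofBijective α ⟨hinj, ?_⟩, hα⟩
  suffices hle : D.group F ≤ α.range.map (D.group F).subtype by
    intro y
    obtain ⟨z, ⟨w, hw⟩, e⟩ := hle y.2
    exact ⟨w, hw.trans (Subtype.ext e)⟩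
  conv_lhs => rw [group_eq h.good]
  rw [Subgroup.closure_le]
  rintro _ ⟨s, t, hs, rfl⟩
  obtain ⟨r, hr, rfl⟩ := Iso.r_surj v hs
  obtain ⟨u, hu⟩ : ∃ u : F, u ^ I.l r = t := by
    rcases v.l_cases r hr with e | e <;> rw [e]
    · exact ⟨t, pow_one t⟩
    · exact hperf t
  exact ⟨_, ⟨⟨xG h.good r u, xG_mem_group h.good r u⟩, rfl⟩, by
    show ((α _ : ↥(D.group F)) : GL D.Idx F) = _
    rw [hα r hr u, hu]⟩

end CfsgLib.Chev
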