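/-
Folded endomorphisms: a graph automorphism or special isogeny after a field endomorphism.
-/
import Cfsg.Agent.Lib.Chev.Twist.Basic
import Cfsg.Agent.Lib.Chev.Twist.GraphMat
import Cfsg.Agent.Lib.Chev.Twist.Special

set_option autoImplicit false

namespace CfsgLib.Chev

open Cfsg.Lie Matrix

variable {D : ChevalleyDatum} {A : Aux} {F : Type*} [Field F]

lemma xMat_ringHom (f : F →+* F) (r : Fin D.nroots) (t : F) :
    (D.xMat F r t).map f = D.xMat F r (f t) := by
  ext row col
  rcases col with i | s <;> rcases row with i' | u <;>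
    simp only [ChevalleyDatum.xMat, Matrix.map_apply, Matrix.of_apply] <;> split_ifs <;>
    simp [map_list_sum, Function.comp_def, *]

lemma xG_ringHom (g : Good D A) (f : F →+* F) (r : ℕ) (t : F) :
    Matrix.GeneralLinearGroup.map f (xG g r t) = xG g r (f t) := by
  apply Units.ext
  show ((xG g r t : GL D.Idx F) : Matrix D.Idx D.Idx F).map f = _
  rw [xG_val, xG_val]
  unfold ChevalleyDatum.x
  split_ifs with h
  · exact xMat_ringHom f _ t
  · exact Matrix.map_one f f.map_zero f.map_one

lemma group_ringHom (g : Good D A) (f : F →+* F) :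
    D.group F ≤ (D.group F).comap (Matrix.GeneralLinearGroup.map f) := by
  conv_lhs => rw [group_eq g]
  refine (Subgroup.closure_le _).2 ?_
  rintro _ ⟨r, t, -, rfl⟩
  show Matrix.GeneralLinearGroup.map f (xG g r t) ∈ D.group F
  rw [xG_ringHom]
  exact xG_mem_group g r _

/-- a field endomorphism on the Chevalley group -/
noncomputable def fieldHom (g : Good D A) (f : F →+* F) : ↥(D.group F) →* ↥(D.group F) :=
  ((Matrix.GeneralLinearGroup.map f).comp (D.group F).subtype).codRestrict (D.group F)
    fun y => group_ringHom g f y.2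

lemma fieldHom_xG (g : Good D A) (f : F →+* F) (r : ℕ) (t : F) :
    fieldHom g f ⟨xG g r t, xG_mem_group g r t⟩ = ⟨xG g r (f t), xG_mem_group g r (f t)⟩ :=
  Subtype.ext (xG_ringHom g f r t)

/-- graph automorphism after a field endomorphism -/
noncomputable def Twist.ofGraph (h : Std D A) {f : Fold} (v : f.Valid D A)
    (hb : braidCheck D A f = true) {G : GSym} (vG : G.Valid D A)
    (hr : ∀ r < D.nroots, f.r r = G.r r) (σ : F →+* F) : Twist F h f where
  sigma := (GSym.aut h.good vG).toMonoidHom.comp (fieldHom h.good σ)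
  phi r t := (G.e r : F) * σ t
  psi _ := σ
  sigma_x r hr' t := by
    rw [MonoidHom.comp_apply, fieldHom_xG, hr r hr']
    exact GSym.aut_xG h.good vG hr' _
  phi_ne r hr' t ht := by
    refine mul_ne_zero ?_ ((map_ne_zero σ).2 ht)
    rcases vG.e_sign r hr' with e | e <;> simp [e]
  phi_simple i hi t := by
    constructor
    · simp [vG.e_simple i hi]
    · simp [vG.e_neg _ (h.good.simple_lt i hi), vG.e_simple i hi]
  valid := v
  braid := hb

/-- the data needed to twist by a special isogeny -/
structure IsoFold (D : ChevalleyDatum) (A : Aux) (f : Fold) (I : Iso) : Prop where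
  rho : ∀ r < D.nroots, f.r r = I.r r
  lneg : ∀ i < D.rank, I.l (A.neg (D.simple i)) = I.l (D.simple i)

/-- special isogeny after a field endomorphism -/
noncomputable def Twist.ofIso (h : Std D A) {f : Fold} (v : f.Valid D A)
    (hb : braidCheck D A f = true) (hC : conn D A = true) {I : Iso} [CharP F I.p]
    (vI : I.Valid D A) (hI : IsoFold D A f I) (σ : F →+* F) : Twist F h f :=
  haveI : Fact (Nat.Prime I.p) := ⟨vI.prime⟩
  { sigma := (Iso.exists_hom (F := F) h hC vI).choose.comp (fieldHom h.good σ)
    phi := fun r t => σ t ^ I.l r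
    psi := fun i => if I.l (D.simple i) = 1 then σ else (frobenius F I.p).comp σ
    sigma_x := fun r hr t => by
      rw [MonoidHom.comp_apply, fieldHom_xG, hI.rho r hr]
      exact (Iso.exists_hom (F := F) h hC vI).choose_spec.2 r hr _
    phi_ne := fun r _ t ht => pow_ne_zero _ ((map_ne_zero σ).2 ht)
    phi_simple := fun i hi t => by
      rw [hI.lneg i hi, and_self_iff]
      rcases vI.l_cases _ (h.good.simple_lt i hi) with e | e
      · simp [e]
      · simp [e, vI.prime.ne_one, frobenius_def]
    valid := v
    braid := hb }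

end CfsgLib.Chev
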