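import Cfsg.Agent.Lib.Chev.Twist.Special
import Cfsg.Agent.Lib.Chev.Types
/-! Generated special isogenies. -/

set_option autoImplicit false
set_option maxRecDepth 100000

namespace CfsgLib.Chev

open Cfsg.Lie

/-- special isogeny -/
def isoB2 : Iso := ⟨2, [0, 3, 4, 7, 8], [1, 2, 5, 6, 9], [1, 0, 3, 2, 5, 4, 7, 6], [1, 2, 2, 1, 1, 2, 2, 1]⟩

theorem isoB2_check : isoB2.check chevB2 auxB2 = true := by decide +kernel

theorem isoB2_valid : isoB2.Valid chevB2 auxB2 := Iso.valid_of_check isoB2_check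

/-- special isogeny -/
def isoF4 : Iso := ⟨2, [0, 1, 7, 11, 12, 13, 14, 15, 16, 17, 18, 22, 23, 24, 31, 32, 33, 37, 38, 39, 40, 41, 42, 43, 44, 48], [3, 2, 4, 5, 6, 8, 19, 9, 20, 25, 27, 10, 21, 26, 29, 34, 45, 28, 30, 35, 46, 36, 47, 49, 50, 51], [3, 7, 8, 0, 9, 11, 18, 1, 2, 4, 15, 5, 16, 21, 23, 10, 12, 19, 6, 17, 22, 13, 20, 14, 33, 27, 34, 25, 30, 41, 28, 35, 37, 24, 26, 31, 42, 32, 43, 45, 46, 29, 36, 38, 47, 39, 40, 44], [1, 1, 1, 2, 1, 1, 1, 2, 2, 2, 2, 2, 2, 2, 2, 1, 1, 1, 2, 2, 2, 1, 1, 1, 1, 1, 1, 2, 2, 2, 1, 1, 1, 2, 2, 2, 2, 2, 2, 2, 2, 1, 1, 1, 2, 1, 1, 1]⟩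

theorem isoF4_check : isoF4.check chevF4 auxF4 = true := by decide +kernel

theorem isoF4_valid : isoF4.Valid chevF4 auxF4 := Iso.valid_of_check isoF4_check

/-- special isogeny -/
def isoG2 : Iso := ⟨3, [0, 4, 5, 6, 9, 10, 11], [1, 2, 3, 7, 8, 12, 13], [2, 3, 0, 1, 5, 4, 7, 6, 10, 11, 8, 9], [1, 1, 3, 3, 3, 1, 1, 3, 3, 3, 1, 1]⟩

theorem isoG2_check : isoG2.check chevG2 auxG2 = true := by decide +kernel

theorem isoG2_valid : isoG2.Valid chevG2 auxG2 := Iso.valid_of_check isoG2_check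

end CfsgLib.Chev
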