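/-
Equalities between products of root elements in a given characteristic, checked on columns.
-/
import Cfsg.Agent.Lib.Chev.Twist.Class

set_option autoImplicit false

namespace CfsgLib.Chev

open Cfsg.Lie Matrix

variable {D : ChevalleyDatum} {A : Aux} {F : Type*} [Field F]

/-- the two sparse vectors agree modulo `p` -/
def seqMod (p : ℕ) (v w : List (ℕ × ℤ)) : Bool :=
  (snorm (v ++ w.map fun q => (q.1, -q.2))).all fun q => decide (q.2 % (p : ℤ) = 0)

lemma sval_eq_of_seqMod {p : ℕ} [CharP F p] (g : ℕ → D.Idx → F) {v w : List (ℕ × ℤ)}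
    (h : seqMod p v w = true) : sval g v = sval g w := by
  have h0 : sval g (snorm (v ++ w.map fun q => (q.1, -q.2))) = 0 := by
    rw [seqMod, List.all_eq_true] at h
    refine List.sum_eq_zero fun y hy => ?_
    obtain ⟨q, hq, rfl⟩ := List.mem_map.1 hy
    have hdvd : (p : ℤ) ∣ q.2 := Int.dvd_of_emod_eq_zero (of_decide_eq_true (h q hq))
    rw [← Int.cast_smul_eq_zsmul F, (CharP.intCast_eq_zero_iff F p q.2).2 hdvd, zero_smul]
  have hneg : ∀ u : List (ℕ × ℤ), sval g (u.map fun q => (q.1, -q.2)) = -sval g u := by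
    intro u
    induction u with
    | nil => simp [sval]
    | cons x u ih => simp [sval_cons, ih, add_comm]
  rw [sval_snorm, sval_append, hneg, ← sub_eq_add_neg, sub_eq_zero] at h0
  exact h0

variable (D A) in
/-- two words have equal matrices modulo `p` -/
noncomputable def wordEqCheck (p : ℕ) (w w' : List (ℕ × ℤ)) : Bool :=
  (w ++ w').all (fun q => decide (q.1 < D.nroots)) &&
  (List.range (D.rank + D.nroots)).all fun c =>
    seqMod p (A.appWord D.rank D.nroots w [(c, 1)]) (A.appWord D.rank D.nroots w' [(c, 1)])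

theorem word_eq_of_check (g : Good D A) {p : ℕ} [CharP F p] {w w' : List (ℕ × ℤ)}
    (h : wordEqCheck D A p w w' = true) :
    (w.map fun q => xG g q.1 (q.2 : F)).prod = (w'.map fun q => xG g q.1 (q.2 : F)).prod := by
  simp only [wordEqCheck, Bool.and_eq_true, List.all_eq_true, List.mem_range, decide_eq_true_eq,
    List.mem_append] at h
  obtain ⟨hlt, hc⟩ := h
  have e1 := prod_xG_val (F := F) g (w.map fun q => (q.1, (q.2 : F)))
  have e2 := prod_xG_val (F := F) g (w'.map fun q => (q.1, (q.2 : F)))
  rw [List.map_map] at e1 e2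
  apply Units.ext
  refine e1.trans (Eq.trans ?_ e2.symm)
  refine matrix_ext fun c hc' => ?_
  have := sval_eq_of_seqMod (ev D F) (hc c hc')
  rw [sval_appWord g (fun q hq => hlt q (Or.inl hq)), sval_appWord g (fun q hq => hlt q (Or.inr hq))]
    at this
  simpa [sval] using this

end CfsgLib.Chev
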