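/-
Frobenius powers of finite fields and the number of their fixed points.
-/
import Mathlib

set_option autoImplicit false

namespace CfsgLib.Chev

variable {F : Type*} [Field F] [Fintype F] {q k : ℕ}

theorem exists_powHom (hq : IsPrimePow q) (hk : k ≠ 0) (hF : Fintype.card F = q ^ k) :
    ∃ σ : F →+* F, ∀ x, σ x = x ^ q := by
  obtain ⟨p, a, hp, ha, rfl⟩ := hq
  have hp' := hp.nat_prime
  obtain ⟨r, hr⟩ := CharP.exists F
  obtain ⟨n, hr', hn⟩ := FiniteField.card F r
  obtain rfl : r = p := by
    have h1 : r ∣ (p ^ a) ^ k := hF ▸ hn ▸ dvd_pow_self r n.ne_zero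
    exact (Nat.prime_dvd_prime_iff_eq hr' hp').1 (hr'.dvd_of_dvd_pow (hr'.dvd_of_dvd_pow h1))
  have : Fact r.Prime := ⟨hr'⟩
  exact ⟨iterateFrobenius F r a, fun x => iterateFrobenius_def r a x⟩

theorem card_pow_fixed (hk : k ≠ 0) (hq : 2 ≤ q) (hF : Fintype.card F = q ^ k) :
    Nat.card {t : F // t ^ q = t} = q := by
  classical
  have hU : Nat.card {u : Fˣ // u ^ (q - 1) = 1} = q - 1 := by
    show Nat.card (powMonoidHom (q - 1) : Fˣ →* Fˣ).ker = q - 1
    rw [IsCyclic.card_powMonoidHom_ker, Nat.card_units, Nat.card_eq_fintype_card, hF]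
    refine Nat.gcd_eq_right ?_
    simpa using Nat.sub_dvd_pow_sub_pow q 1 k
  have hz : (0 : F) ^ q = 0 := zero_pow (by omega)
  have e : {t : F // t ^ q = t} ≃ Option {u : Fˣ // u ^ (q - 1) = 1} :=
    { toFun := fun t => if ht : t.1 = 0 then none else some ⟨Units.mk0 t.1 ht, Units.ext (by
        have := t.2
        obtain ⟨m, rfl⟩ : ∃ m, q = m + 1 := ⟨q - 1, by omega⟩
        rw [pow_succ] at this
        simpa using (mul_eq_right₀ ht).1 this)⟩
      invFun := fun o => o.elim ⟨0, hz⟩ fun u => ⟨(u.1 : F), by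
        have := congrArg Units.val u.2
        simp only [Units.val_pow_eq_pow_val, Units.val_one] at this
        obtain ⟨m, rfl⟩ : ∃ m, q = m + 1 := ⟨q - 1, by omega⟩
        simp only [Nat.add_sub_cancel] at this
        rw [pow_succ, this, one_mul]⟩
      left_inv := fun t => by
        by_cases ht : t.1 = 0
        · simp only [dif_pos ht]; exact Subtype.ext ht.symm
        · simp only [dif_neg ht]; rfl
      right_inv := fun o => by
        rcases o with _ | u
        · simp
        · simp }
  rw [Nat.card_congr e, Finite.card_option, hU]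
  omega

end CfsgLib.Chev
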