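/-
Triples of commuting root elements.
-/
import Cfsg.Agent.Lib.Chev.Twist.Count

set_option autoImplicit false

namespace CfsgLib.Chev

open Cfsg.Lie Matrix

variable {D : ChevalleyDatum} {A : Aux} {F : Type*} [Field F]

lemma commute_nG_gen {G : Type*} [Group G] {a b a' b' : G} (h1 : Commute a a') (h2 : Commute a b')
    (h3 : Commute b a') :
    a * b * a * (a' * b' * a') = a * a' * (b * b') * (a * a') := by
  calc a * b * a * (a' * b' * a') = a * b * (a * a') * (b' * a') := by group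
    _ = a * (b * a') * (a * b') * a' := by rw [h1.eq]; group
    _ = a * a' * b * b' * (a * a') := by rw [h3.eq, h2.eq]; group
    _ = _ := by group

/-- three pairwise commuting pairs of opposite roots -/
def TripOK (D : ChevalleyDatum) (A : Aux) (r s u : ℕ) : Prop :=
  PairOK D A r s ∧ PairOK D A r u ∧ PairOK D A s u

lemma nG_trip_mem (h : Std D A) {r s u : ℕ} (p : TripOK D A r s u) {X : Subgroup (GL D.Idx F)}
    {σ : F →+* F} (hp : ∀ t, xG h.good r t * xG h.good s (σ t) * xG h.good u (σ (σ t)) ∈ X)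
    (hn : ∀ t, xG h.good (A.neg r) t * xG h.good (A.neg s) (σ t) * xG h.good (A.neg u) (σ (σ t)) ∈ X)
    (c : F) : nG h.good r c * nG h.good s (σ c) * nG h.good u (σ (σ c)) ∈ X := by
  obtain ⟨⟨hr, hs, a1, a2, a3, a4⟩, ⟨-, hu, b1, b2, b3, b4⟩, ⟨-, -, c1, c2, c3, c4⟩⟩ := p
  rw [commute_nG h hr hs a1 a2 a3 a4]
  unfold nG
  rw [h.good.neg_eq u hu]
  rw [commute_nG_gen ((commute_xG h b1 _ _).mul_left (commute_xG h c1 _ _))
    ((commute_xG h b2 _ _).mul_left (commute_xG h c2 _ _))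
    ((commute_xG h b3 _ _).mul_left (commute_xG h c3 _ _))]
  refine mul_mem (mul_mem (hp c) ?_) (hp c)
  have := hn (-c⁻¹)
  rwa [map_neg, map_inv₀, map_neg, map_inv₀] at this

lemma hG_trip_mem (h : Std D A) {r s u : ℕ} (p : TripOK D A r s u) {X : Subgroup (GL D.Idx F)}
    {σ : F →+* F} (hp : ∀ t, xG h.good r t * xG h.good s (σ t) * xG h.good u (σ (σ t)) ∈ X)
    (hn : ∀ t, xG h.good (A.neg r) t * xG h.good (A.neg s) (σ t) * xG h.good (A.neg u) (σ (σ t)) ∈ X)
    (c : F) : hG h.good r c * hG h.good s (σ c) * hG h.good u (σ (σ c)) ∈ X := by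
  have q1 : Commute (nG h.good r (-1)) (nG h.good s (σ c)) := commute_nG' h p.1 _ _
  have q2 : Commute (nG h.good r (-1)) (nG h.good u (σ (σ c))) := commute_nG' h p.2.1 _ _
  have q3 : Commute (nG h.good s (-1)) (nG h.good u (σ (σ c))) := commute_nG' h p.2.2 _ _
  have m1 := nG_trip_mem h p hp hn c
  have m2 := nG_trip_mem h p hp hn (-1)
  rw [map_neg, map_one, map_neg, map_one] at m2
  unfold hG
  have e : ∀ {G : Type _} [Group G] (N1 M1 N2 M2 N3 M3 : G), Commute M1 N2 → Commute M1 N3 →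
      Commute M2 N3 → N1 * M1 * (N2 * M2) * (N3 * M3) = N1 * N2 * N3 * (M1 * M2 * M3) := by
    intro G _ N1 M1 N2 M2 N3 M3 h12 h13 h23
    calc N1 * M1 * (N2 * M2) * (N3 * M3) = N1 * (M1 * N2) * (M2 * N3) * M3 := by group
      _ = N1 * N2 * (M1 * N3) * (M2 * M3) := by rw [h12.eq, h23.eq]; group
      _ = _ := by rw [h13.eq]; group
  rw [e _ _ _ _ _ _ q1 q2 q3]
  exact mul_mem m1 m2

end CfsgLib.Chev
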