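import Cfsg.Agent.Lib.Chev.Twist.Fix

/-!
Elementwise form of the orbit splitting of the fixed unipotent parts.
-/

set_option autoImplicit false

namespace CfsgLib.Chev

open Cfsg.Lie Matrix

variable {D : ChevalleyDatum} {A : Aux} {F : Type*} [Field F]

namespace Twist

variable {h : Std D A} {f : Fold} (τ : Twist F h f)

/-- the factors of an element when an orbit is split off from the right -/
lemma V_split_elem [Fintype F] {w : List ℕ} (hw : Letters D w)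
    (hc : ∀ r < D.nroots, wf A w (f.r r) = f.r (wf A w r)) {j i : ℕ} (hj : j < f.num)
    (hi : i ∈ f.J j) (hn : ¬ D.IsPosRoot (wf A w (D.simple i))) {y : GL D.Idx F} (hy : y ∈ τ.V w) :
    ∃ a ∈ τ.V (w ++ f.w j), ∃ c ∈ τ.V (f.w j), y = τ.nJ j * a * (τ.nJ j)⁻¹ * c := by
  classical
  have g := h.good
  have v := τ.valid
  have : Finite (GL D.Idx F) := finite_GL
  have hlJ := v.letters hj
  set wJ := f.w j
  set m := τ.nJ j with hm
  have hmA : Acts g m (wf A wJ) := nW_acts g hlJ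
  have hwlt := fun {r} (hr : r < D.nroots) => wf_lt g hlJ hr
  have hkey : ∀ r, toNeg D (wf A (w ++ wJ)) r →
      toNeg D (wf A w) (wf A wJ r) ∧ D.IsPosRoot (wf A wJ r) := by
    intro r hr
    have hr1 := hr.1
    have hr2 := hr.2
    rw [wf_append] at hr2
    have hy := hwlt hr1.1
    suffices D.IsPosRoot (wf A wJ r) from ⟨⟨this, hr2⟩, this⟩
    by_contra hneg
    have hyp := (pos_or_pos_neg g hy).resolve_left hneg
    have h2 : ¬ D.IsPosRoot (wf A wJ (A.neg (wf A wJ r))) := by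
      rw [(wf_rootMap g hlJ).map_neg g hy, v.w_invol j hj r hr1.1]
      exact not_pos_neg g hr1
    have h3 := Fold.Valid.inverts_orbit g v hw hc hj hi hn hyp h2
    rw [(wf_rootMap g hw).map_neg g hy] at h3
    rcases pos_or_pos_neg g (wf_lt g hw hy) with h' | h'
    · exact not_pos_of_isNeg g hr2 h'
    · exact h3 h'
  have hJle : UP F g (toNeg D (wf A wJ)) ≤ UP F g (toNeg D (wf A w)) := UP_le fun r t hr =>
    xG_mem_UP g (P := toNeg D (wf A w)) ⟨hr.1, isNeg_of_not_pos g (wf_lt g hw hr.1.1)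
      (Fold.Valid.inverts_orbit g v hw hc hj hi hn hr.1 (not_pos_of_isNeg g hr.2))⟩ t
  have hconj : ∀ a ∈ UP F g (toNeg D (wf A (w ++ wJ))), m * a * m⁻¹ ∈ UP F g (toNeg D (wf A w)) :=
    fun a ha => conj_UP_le hmA (fun r hr => hr.1.1)
      (fun r t hr => xG_mem_UP g (P := toNeg D (wf A w)) (hkey r hr).1 t) ha
  have hback : ∀ a ∈ UP F g (toNeg D (wf A (w ++ wJ))),
      m * (m * a * m⁻¹) * m⁻¹ ∈ D.posUnipotent F := by
    intro a ha
    rw [show m * (m * a * m⁻¹) * m⁻¹ = (m * m) * a * (m * m)⁻¹ by group]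
    refine conj_UP_le (hmA.mul hmA) (fun r hr => hr.1.1) (fun r t hr => ?_) ha
    rw [Function.comp_apply, v.w_invol j hj r hr.1.1]
    exact xG_mem_posUnipotent g hr.1 t
  let Φ : ↥(UP F g (toNeg D (wf A (w ++ wJ)))) × ↥(UP F g (toNeg D (wf A wJ))) →
      ↥(UP F g (toNeg D (wf A w))) := fun p =>
    ⟨m * p.1.1 * m⁻¹ * p.2.1, mul_mem (hconj _ p.1.2) (hJle p.2.2)⟩
  have hinj : Function.Injective Φ := by
    rintro ⟨⟨a, ha⟩, ⟨c, hc'⟩⟩ ⟨⟨a', ha'⟩, ⟨c', hc''⟩⟩ e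
    have e' : m * a * m⁻¹ * c = m * a' * m⁻¹ * c' := congrArg Subtype.val e
    have e2 : m * (m * a * m⁻¹) * m⁻¹ * m * c = m * (m * a' * m⁻¹) * m⁻¹ * m * c' := by
      rw [inv_mul_cancel_right, inv_mul_cancel_right]
      simp only [mul_assoc] at e' ⊢
      rw [e']
    obtain ⟨e3, rfl⟩ := normal_form_unique h hmA (pos_le_borel (hback a ha))
      (pos_le_borel (hback a' ha')) hc' hc'' e2
    obtain rfl : a = a' := by simpa using e'
    rfl
  have hbij : Function.Bijective Φ := by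
    rw [Nat.bijective_iff_injective_and_card]
    refine ⟨hinj, ?_⟩
    have e : ∀ u, Letters D u → Nat.card ↥(UP F g (toNeg D (wf A u))) =
        Fintype.card F ^ nInv D A u := fun u hu => by
      rw [card_toNeg h (nW_acts (F := F) g hu)]; rfl
    rw [Nat.card_prod, e w hw, e _ (hw.append hlJ), e wJ hlJ, ← pow_add,
      Fold.Valid.nInv_descent g v hw hc hj hi hn]
  have hc1 : ∀ r < D.nroots, wf A (w ++ wJ) (f.r r) = f.r (wf A (w ++ wJ) r) := by
    intro r hr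
    rw [wf_append, wf_append, v.w_comm j hj r hr, hc _ (hwlt hr)]
  have hmfix : m ∈ τ.fix := τ.nJ_fix hj
  have hiff : ∀ p, ((Φ p : ↥(UP F g (toNeg D (wf A w)))) : GL D.Idx F) ∈ τ.fix ↔
      (p.1.1 ∈ τ.fix ∧ p.2.1 ∈ τ.fix) := by
    rintro ⟨⟨a, ha⟩, ⟨c, hc'⟩⟩
    refine ⟨fun hfix => ?_, fun hh => mul_mem (mul_mem (mul_mem hmfix hh.1) (inv_mem hmfix)) hh.2⟩
    obtain ⟨a', ha', hma⟩ := τ.maps_toNeg (hw.append hlJ) hc1 ha
    obtain ⟨c', hc'', hmc⟩ := τ.maps_toNeg hlJ (v.w_comm j hj) hc'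
    have hmΦ := Maps.mul τ (Maps.mul τ (Maps.mul τ hmfix hma) (Maps.inv τ hmfix)) hmc
    have hEq := Maps.fun_eq τ hfix hmΦ
    have := hinj (a₁ := (⟨a, ha⟩, ⟨c, hc'⟩)) (a₂ := (⟨a', ha'⟩, ⟨c', hc''⟩)) (Subtype.ext hEq)
    rw [Prod.ext_iff] at this
    obtain ⟨e1, e2⟩ := this
    rw [Subtype.ext_iff] at e1 e2
    dsimp only at e1 e2
    subst e1 e2
    exact ⟨hma, hmc⟩
  obtain ⟨p, hp⟩ := hbij.2 ⟨y, hy.1⟩
  have hp' := (hiff p).1 (by rw [hp]; exact hy.2)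
  exact ⟨p.1.1, ⟨p.1.2, hp'.1⟩, p.2.1, ⟨p.2.2, hp'.2⟩, (congrArg Subtype.val hp).symm⟩

end Twist

end CfsgLib.Chev
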